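import Cfsg.Agent.Suz.Partition
import Cfsg.Agent.Suz.Small
import Cfsg.Agent.Transfer.Basic

/-!
Elements of odd order of the Suzuki groups are products of two involutions.
-/

set_option linter.style.haveILetI false
set_option linter.unusedSectionVars false

namespace Cfsg.Lib.FrakL

open Subgroup Cfsg.Lib.Suz

variable {F : Type*} [Field F] [Fintype F] {m : ℕ} (Q : Par F m)
include Q

theorem sz_involutions (P : Subgroup (Cfsg.Sz F m)) (hP : ∀ x ∈ P, x ^ 2 = 1) (hcard : Nat.card P = Fintype.card F) :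
    ∃ c : Cfsg.Sz F m, ∀ x, x ∈ P ↔ ∃ b : F, c * x * c⁻¹ = uu Q 0 b := by
  haveI : Fact (Nat.Prime 2) := ⟨Nat.prime_two⟩
  have h2 : IsPGroup 2 P := fun x => ⟨1, Subtype.ext (by simpa using hP x x.2)⟩
  obtain ⟨S, hS⟩ := h2.exists_le_sylow
  obtain ⟨c, hc⟩ := exists_conj Q S
  have hform : ∀ x ∈ P, ∃ b : F, c * x * c⁻¹ = uu Q 0 b := by
    intro x hx
    obtain ⟨a, b, e⟩ := exists_uu Q ((hc x).1 (hS hx))
    have h1 : uu Q a b ^ 2 = 1 := by rw [← e, conj_pow, hP x hx, mul_one, mul_inv_cancel]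
    rw [uu_sq, ← uu_zero Q] at h1
    have ha : a = 0 := eq_zero_of_pow_eq_zero (uu_inj Q h1).2
    exact ⟨b, by rw [e, ha]⟩
  let g : P → F := fun x => Classical.choose (hform x x.2)
  have hg : ∀ x : P, c * (x : Cfsg.Sz F m) * c⁻¹ = uu Q 0 (g x) := fun x => Classical.choose_spec (hform x x.2)
  have hginj : Function.Injective g := fun x y e => Subtype.ext (by
    have h := (hg x).trans ((congrArg (uu Q 0) e).trans (hg y).symm)
    exact mul_left_cancel (mul_right_cancel h))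
  have hbij : Function.Bijective g :=
    (Nat.bijective_iff_injective_and_card g).2 ⟨hginj, by rw [hcard, Nat.card_eq_fintype_card]⟩
  refine ⟨c, fun x => ⟨fun hx => hform x hx, fun ⟨b, hb⟩ => ?_⟩⟩
  obtain ⟨y, rfl⟩ := hbij.2 b
  rw [← hg y] at hb
  rw [mul_left_cancel (mul_right_cancel hb)]
  exact y.2

theorem sz_involution_conj (P : Subgroup (Cfsg.Sz F m)) (hP : ∀ x ∈ P, x ^ 2 = 1) (hcard : Nat.card P = Fintype.card F)
    {t : Cfsg.Sz F m} (ht : t ^ 2 = 1) : ∃ e : Cfsg.Sz F m, t ∈ P.map (MulAut.conj e).toMonoidHom := by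
  haveI : Fact (Nat.Prime 2) := ⟨Nat.prime_two⟩
  obtain ⟨c, hc⟩ := sz_involutions Q P hP hcard
  have h2 : IsPGroup 2 (zpowers t) := by
    rintro ⟨x, hx⟩
    obtain ⟨n, rfl⟩ := mem_zpowers_iff.1 hx
    refine ⟨1, Subtype.ext ?_⟩
    show (t ^ n) ^ 2 ^ 1 = 1
    rw [pow_one, ← zpow_natCast, ← zpow_mul, mul_comm, zpow_mul, zpow_natCast, ht, one_zpow]
  obtain ⟨S, hS⟩ := h2.exists_le_sylow
  obtain ⟨d, hd⟩ := exists_conj Q S
  obtain ⟨a, b, e⟩ := exists_uu Q ((hd t).1 (hS (mem_zpowers t)))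
  have h1 : uu Q a b ^ 2 = 1 := by rw [← e, conj_pow, ht, mul_one, mul_inv_cancel]
  rw [uu_sq, ← uu_zero Q] at h1
  have ha : a = 0 := eq_zero_of_pow_eq_zero (uu_inj Q h1).2
  refine ⟨d⁻¹ * c, c⁻¹ * (d * t * d⁻¹) * c, (hc _).2 ⟨b, by rw [← ha, ← e]; group⟩, ?_⟩
  show d⁻¹ * c * (c⁻¹ * (d * t * d⁻¹) * c) * (d⁻¹ * c)⁻¹ = t
  group

theorem free_inverted {g : Cfsg.Sz F m} (hg : Free Q g) : ∃ t : Cfsg.Sz F m, t ^ 2 = 1 ∧ t * g * t⁻¹ = g⁻¹ := by
  haveI : Fact (Nat.Prime 2) := ⟨Nat.prime_two⟩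
  obtain ⟨a, b, ha, hb, hca, hcb, hNa, hNb, hall⟩ := two_tori Q
  have key : ∀ a, Free Q a → Nat.card (Subgroup.normalizer (tor a : Set (Cfsg.Sz F m))) = 4 * Nat.card (tor a) →
      Nat.card (tor g) = Nat.card (tor a) → Odd (Nat.card (tor a)) →
      ∃ t : Cfsg.Sz F m, t ^ 2 = 1 ∧ t * g * t⁻¹ = g⁻¹ := by
    intro a ha hNa hcard hodd
    obtain ⟨p, hp, hpd⟩ := Nat.exists_prime_and_dvd (n := Nat.card (tor g)) (by
      have := (card_tor Q hg).2.1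
      omega)
    haveI : Fact p.Prime := ⟨hp⟩
    obtain ⟨P, hP⟩ := tor_sylow Q hg hp hpd
    obtain ⟨P', hP'⟩ := tor_sylow Q ha hp (hcard ▸ hpd)
    obtain ⟨c, hc⟩ := MulAction.exists_smul_eq (Cfsg.Sz F m) P P'
    obtain ⟨y, hy⟩ : ∃ y : Cfsg.Sz F m, y ∈ (P : Subgroup (Cfsg.Sz F m)) ∧ y ≠ 1 := by
      have hd := P.dvd_card_of_dvd_card (hpd.trans (card_subgroup_dvd_card _))
      have : Nontrivial (P : Subgroup (Cfsg.Sz F m)) := by
        rw [← Finite.one_lt_card_iff_nontrivial]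
        exact hp.one_lt.trans_le (Nat.le_of_dvd Nat.card_pos hd)
      obtain ⟨y, hy⟩ := exists_ne (1 : (P : Subgroup (Cfsg.Sz F m)))
      exact ⟨y, y.2, fun h => hy (Subtype.ext h)⟩
    have hmem : c * y * c⁻¹ ∈ (P' : Subgroup (Cfsg.Sz F m)) := by
      rw [← hc]
      exact ⟨y, hy.1, rfl⟩
    have htor : tor a = (tor g).map (MulAut.conj c).toMonoidHom := by
      rw [← ((tor_spec Q ha).2.1 _ (hP' hmem) (fun h => hy.2 (by rwa [mul_inv_eq_one, mul_eq_left] at h))).2,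
        ← ((tor_spec Q hg).2.1 _ (hP hy.1) hy.2).2]
      exact (map_conj_centralizer _ _).symm
    set N := Subgroup.normalizer (tor g : Set (Cfsg.Sz F m))
    have hNg : Nat.card N = 4 * Nat.card (tor g) := by
      have h : N.map (MulAut.conj c).toMonoidHom = Subgroup.normalizer (tor a : Set (Cfsg.Sz F m)) := by
        rw [htor]
        exact Subgroup.map_equiv_normalizer_eq _ (MulAut.conj c)
      rw [← Cfsg.Lib.Transfer.card_map_conj N c, h, hNa, hcard]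
    obtain ⟨t, ht⟩ := exists_prime_orderOf_dvd_card' (G := N) 2 (hNg ▸ Dvd.dvd.mul_right (by norm_num) _)
    have ht2 : (t : Cfsg.Sz F m) ^ 2 = 1 := by
      have := congrArg Subtype.val (pow_orderOf_eq_one t)
      rwa [ht] at this
    refine ⟨t, ht2, ?_⟩
    have htinv : (t : Cfsg.Sz F m)⁻¹ = t := inv_eq_of_mul_eq_one_right (by rw [← pow_two, ht2])
    have htn : (t : Cfsg.Sz F m) ∉ tor g := by
      intro hmemt
      have h1 := orderOf_dvd_natCard (⟨(t : Cfsg.Sz F m), hmemt⟩ : tor g)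
      rw [Subgroup.orderOf_mk, Subgroup.orderOf_coe, ht, hcard] at h1
      exact Nat.not_even_iff_odd.2 hodd (even_iff_two_dvd.2 h1)
    haveI := (tor_spec Q hg).1
    let hcomm := IsCyclic.commGroup (α := tor g)
    have hgm : g ∈ tor g := mem_tor.2 (Commute.refl g)
    have hx : (t : Cfsg.Sz F m) * g * (t : Cfsg.Sz F m)⁻¹ ∈ tor g := (mem_normalizer_iff.1 t.2 g).1 hgm
    by_contra hne
    have hv1 : g * ((t : Cfsg.Sz F m) * g * (t : Cfsg.Sz F m)⁻¹) ≠ 1 := fun h => hne (eq_inv_of_mul_eq_one_right h)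
    refine htn (((tor_spec Q hg).2.1 _ (mul_mem hgm hx) hv1).2 ▸ mem_tor.2 ?_)
    have hab : g * ((t : Cfsg.Sz F m) * g * (t : Cfsg.Sz F m)⁻¹) =
        (t : Cfsg.Sz F m) * g * (t : Cfsg.Sz F m)⁻¹ * g :=
      congrArg Subtype.val (mul_comm (⟨g, hgm⟩ : tor g) ⟨_, hx⟩)
    show _ = _
    calc (t : Cfsg.Sz F m) * (g * ((t : Cfsg.Sz F m) * g * (t : Cfsg.Sz F m)⁻¹))
        = (t : Cfsg.Sz F m) * g * (t : Cfsg.Sz F m)⁻¹ * ((t : Cfsg.Sz F m) ^ 2 * g * (t : Cfsg.Sz F m)⁻¹) := by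
          simp only [pow_two]; group
      _ = (t : Cfsg.Sz F m) * g * (t : Cfsg.Sz F m)⁻¹ * (g * t) := by rw [ht2, htinv, one_mul]
      _ = g * ((t : Cfsg.Sz F m) * g * (t : Cfsg.Sz F m)⁻¹) * t := by rw [hab]; group
  have hodd : ∀ n : ℕ, Even n → Odd (n + 1) := fun n h => h.add_one
  have heq : Even (2 ^ (2 * m + 1)) := (Nat.even_pow).2 ⟨even_two, by omega⟩
  have hes : Even (2 ^ (m + 1)) := (Nat.even_pow).2 ⟨even_two, by omega⟩
  rcases hall g hg with h | h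
  · exact key a ha hNa (h.trans hca.symm) (hca ▸ hodd _ (heq.add hes))
  · exact key b hb hNb (h.trans hcb.symm) (hcb ▸ hodd _ ((Nat.even_sub (Nat.pow_le_pow_right two_pos (by omega))).2 (iff_of_true heq hes)))

theorem sz_two_involutions {g : Cfsg.Sz F m} (hg : (orderOf g).Coprime 2) (hg1 : g ≠ 1) :
    ∃ s t : Cfsg.Sz F m, s ^ 2 = 1 ∧ t ^ 2 = 1 ∧ g = s * t := by
  suffices h : ∃ t : Cfsg.Sz F m, t ^ 2 = 1 ∧ t * g * t⁻¹ = g⁻¹ by
    obtain ⟨t, ht, hinv⟩ := h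
    have hti : t⁻¹ = t := inv_eq_of_mul_eq_one_right (by rw [← pow_two, ht])
    refine ⟨g * t, t, ?_, ht, by rw [mul_assoc, ← pow_two, ht, mul_one]⟩
    rw [pow_two, show g * t * (g * t) = g * (t * g * t) by group]
    nth_rewrite 2 [← hti]
    rw [hinv, mul_inv_cancel]
  rcases elt_split Q hg1 with ⟨c, hc⟩ | ⟨c, k, -, e⟩ | hf
  · exfalso
    obtain ⟨a, b, e⟩ := exists_uu Q hc
    have h4 : (c * g * c⁻¹) ^ 4 = 1 := by rw [e, uu_four]
    rw [conj_pow, mul_inv_eq_one, mul_eq_left] at h4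
    exact hg1 (orderOf_eq_one_iff.1 (Nat.eq_one_of_dvd_coprimes (hg.pow_right 2) dvd_rfl
      (orderOf_dvd_of_pow_eq_one (h4 : g ^ 2 ^ 2 = 1))))
  · have hW : (⟨W F, W_mem Q⟩ : Cfsg.Sz F m) ^ 2 = 1 := Subtype.ext (by
      rw [SubgroupClass.coe_pow, pow_two]; exact W_sq Q)
    set w : Cfsg.Sz F m := ⟨W F, W_mem Q⟩
    have hk : hI Q k * w * hI Q k = w := Subtype.ext (hwh Q k)
    refine ⟨c⁻¹ * w * c, ?_, ?_⟩
    · calc (c⁻¹ * w * c) ^ 2 = c⁻¹ * w ^ 2 * c := by simp only [pow_two]; group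
        _ = 1 := by rw [hW]; group
    · have hw2 : w * hI Q k * w⁻¹ = (hI Q k)⁻¹ := by
        nth_rewrite 1 [← hk]
        have hwi : w⁻¹ = w := inv_eq_of_mul_eq_one_right (by rw [← pow_two, hW])
        calc hI Q k * w * hI Q k * hI Q k * w⁻¹ = hI Q k * (w * (hI Q k * hI Q k) * w⁻¹) := by group
          _ = (hI Q k)⁻¹ := by
            have h' : w * hI Q k = (hI Q k)⁻¹ * w := by rw [eq_inv_mul_iff_mul_eq, ← mul_assoc, hk]
            rw [← mul_assoc w, h', mul_assoc _ w, h']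
            group
      have eg : g = c⁻¹ * hI Q k * c := by rw [← e]; group
      rw [eg]
      calc c⁻¹ * w * c * (c⁻¹ * hI Q k * c) * (c⁻¹ * w * c)⁻¹ = c⁻¹ * (w * hI Q k * w⁻¹) * c := by group
        _ = (c⁻¹ * hI Q k * c)⁻¹ := by rw [hw2]; group
  · exact free_inverted Q hf

theorem sz_irreducible (P V : Subgroup (Cfsg.Sz F m)) (hP : ∀ x ∈ P, x ^ 2 = 1) (hcard : Nat.card P = Fintype.card F)
    (hVP : V ≤ P) (hV : V ≠ ⊥) (hn : Subgroup.normalizer (P : Set (Cfsg.Sz F m)) ≤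
      Subgroup.normalizer (V : Set (Cfsg.Sz F m))) : V = P := by
  obtain ⟨c, hc⟩ := sz_involutions Q P hP hcard
  refine le_antisymm hVP fun x hx => ?_
  obtain ⟨b, hb⟩ := (hc x).1 hx
  obtain ⟨v, hv, hv1⟩ := V.ne_bot_iff_exists_ne_one.1 hV |> fun ⟨v, hv⟩ =>
    (⟨v.1, v.2, fun h => hv (Subtype.ext h)⟩ : ∃ v ∈ V, v ≠ 1)
  obtain ⟨b0, hb0⟩ := (hc v).1 (hVP hv)
  by_cases hb' : b = 0
  · rw [hb', uu_zero, mul_inv_eq_one, mul_eq_left] at hb
    rw [hb]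
    exact one_mem V
  have hb00 : b0 ≠ 0 := fun h => hv1 (by rwa [h, uu_zero, mul_inv_eq_one, mul_eq_left] at hb0)
  obtain ⟨k, hk⟩ := exists_s1_root Q (Units.mk0 (b / b0) (div_ne_zero hb' hb00))
  set n := c⁻¹ * hI Q k * c
  have hconj : ∀ (k : Fˣ) (z : Cfsg.Sz F m) (a : F), c * z * c⁻¹ = uu Q 0 a →
      c * (c⁻¹ * hI Q k * c * z * (c⁻¹ * hI Q k * c)⁻¹) * c⁻¹ = uu Q 0 ((k : F) ^ (2 ^ (m + 1) + 1) * a) := by
    intro k z a ha
    rw [show c * (c⁻¹ * hI Q k * c * z * (c⁻¹ * hI Q k * c)⁻¹) * c⁻¹ = hI Q k * (c * z * c⁻¹) * (hI Q k)⁻¹ by group,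
      ha, hI_conj_uu, mul_zero]
  have hnP : n ∈ Subgroup.normalizer (P : Set (Cfsg.Sz F m)) := by
    rw [mem_normalizer_iff_map_conj_eq]
    refine Subgroup.eq_of_le_of_card_ge ?_ (Cfsg.Lib.Transfer.card_map_conj P n).ge
    rintro _ ⟨z, hz, rfl⟩
    obtain ⟨a, ha⟩ := (hc z).1 hz
    exact (hc _).2 ⟨_, hconj k z a ha⟩
  have hmem := (mem_normalizer_iff.1 (hn hnP) v).1 hv
  have hk' : (k : F) ^ (2 ^ (m + 1) + 1) * b0 = b := by
    have := congrArg Units.val hk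
    rw [Units.val_pow_eq_pow_val, Units.val_mk0] at this
    rw [this, div_mul_cancel₀ _ hb00]
  have h := hconj k v b0 hb0
  rw [hk', ← hb] at h
  rwa [mul_left_cancel (mul_right_cancel h)] at hmem

end Cfsg.Lib.FrakL
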