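import Cfsg.Agent.Components.FrakL.Small
import Cfsg.Agent.Components.FrakL.SzReal
import Cfsg.Agent.Suz.Lie
import Cfsg.Agent.Components.Reduced.FrakHQ

/-!
The possible quotients `L/O_p(L)`.
-/

set_option linter.style.haveILetI false
set_option linter.unusedSectionVars false

namespace Cfsg.Lib.FrakL

open Subgroup Cfsg.Lib.Asymmetric
open scoped commutatorElement

variable {Γ : Type*} [Group Γ] {p : ℕ} [hp : Fact p.Prime]

/-- product of two elements of conjugates of `P` -/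
def PrdIn (P : Subgroup Γ) (x : Γ) : Prop :=
  ∃ e₁ e₂ : Γ, ∃ v₁ ∈ cj e₁ P, ∃ v₂ ∈ cj e₂ P, x = v₁ * v₂

/-- what is needed about the quotient and the image of `Y` -/
def Ans (p : ℕ) (P : Subgroup Γ) : Prop :=
  (∀ x : Γ, (orderOf x).Coprime p → x ≠ 1 → PrdIn P x ∨
      (p ≠ 2 ∧ ∃ w₁ w₂ : Γ, ∀ w : Γ, (w = w₁ ∨ w = w₂ ∨ w = w₁ * w₂) →
        (orderOf w).Coprime p ∧ w ≠ 1 ∧ PrdIn P w ∧ w * w = x)) ∧
    ∀ V : Subgroup Γ, IsPGroup p V → (∀ v ∈ V, v ^ p = 1) → V ≠ ⊥ → V ≤ normalizer (P : Set Γ) →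
      normalizer (P : Set Γ) ≤ normalizer (V : Set Γ) → V = P

theorem prdIn_map {Γ' : Type*} [Group Γ'] (e : Γ →* Γ') {P : Subgroup Γ} {x : Γ} (h : PrdIn P x) :
    PrdIn (P.map e) (e x) := by
  obtain ⟨e1, e2, v1, hv1, v2, hv2, rfl⟩ := h
  have hcj : ∀ c : Γ, cj (e c) (P.map e) = (cj c P).map e := fun c => by
    rw [cj, cj, Subgroup.map_map, Subgroup.map_map]
    congr 1
    ext z
    simp
  exact ⟨e e1, e e2, e v1, hcj e1 ▸ mem_map_of_mem e hv1, e v2, hcj e2 ▸ mem_map_of_mem e hv2, map_mul e v1 v2⟩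

theorem ans_equiv {Γ' : Type*} [Group Γ'] (e : Γ ≃* Γ') (P : Subgroup Γ) (h : Ans p (P.map e.toMonoidHom)) :
    Ans p P := by
  have hback : (P.map e.toMonoidHom).map e.symm.toMonoidHom = P := by
    rw [Subgroup.map_map]
    convert Subgroup.map_id P using 2
    ext z
    simp
  refine ⟨fun x hx hx1 => ?_, fun V hV hVp hV1 hle hn => ?_⟩
  · have hprd : ∀ w : Γ', PrdIn (P.map e.toMonoidHom) w → PrdIn P (e.symm w) := fun w hw => by
      have := prdIn_map e.symm.toMonoidHom hw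
      rw [hback] at this
      exact this
    rcases h.1 (e x) (by rwa [MulEquiv.orderOf_eq]) (fun h1 => hx1 (e.injective (by rw [h1, map_one]))) with h1 | ⟨h2, w1, w2, hw⟩
    · exact Or.inl (by simpa using hprd _ h1)
    · refine Or.inr ⟨h2, e.symm w1, e.symm w2, fun w hw' => ?_⟩
      obtain ⟨u, rfl⟩ := e.symm.surjective w
      obtain ⟨hu, hu1, hup, huu⟩ := hw u (by simpa [← map_mul] using hw')
      refine ⟨by rwa [MulEquiv.orderOf_eq], fun h1 => hu1 (e.symm.injective (by rw [h1, map_one])), hprd _ hup, ?_⟩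
      rw [← map_mul, huu, e.symm_apply_apply]
  · have hN : ∀ U : Subgroup Γ, (normalizer (U : Set Γ)).map e.toMonoidHom =
        normalizer ((U.map e.toMonoidHom : Subgroup Γ') : Set Γ') := fun U => Subgroup.map_equiv_normalizer_eq U e
    refine map_injective (f := e.toMonoidHom) e.injective (h.2 _ (hV.map _) ?_ ?_ ?_ ?_)
    · rintro _ ⟨v, hv, rfl⟩
      rw [← map_pow, hVp v hv, map_one]
    · exact fun hb => hV1 ((map_eq_bot_iff_of_injective V e.injective).1 hb)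
    · rw [← hN]; exact map_mono hle
    · rw [← hN, ← hN]; exact map_mono hn

theorem ans_two [Finite Γ] (P : Subgroup Γ) (hcard : Nat.card P = 2) (hcore : Cfsg.pCore 2 Γ = ⊥)
    {g : Γ} (hgen : P ⊔ cj g P = ⊤) : Ans 2 P := by
  haveI : Fact (Nat.Prime 2) := ⟨Nat.prime_two⟩
  obtain ⟨t, ht⟩ := exists_prime_orderOf_dvd_card' (G := P) 2 (hcard ▸ dvd_rfl)
  have hPeq : P = zpowers (t : Γ) := by
    refine (Subgroup.eq_of_le_of_card_ge (zpowers_le.mpr t.2) ?_).symm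
    rw [Nat.card_zpowers, Subgroup.orderOf_coe, ht, hcard]
  have ht2 : (t : Γ) ^ 2 = 1 := by
    have := congrArg Subtype.val (pow_orderOf_eq_one t)
    rwa [ht] at this
  have ht' : (g * (t : Γ) * g⁻¹) ^ 2 = 1 := by rw [conj_pow, ht2, mul_one, mul_inv_cancel]
  have hgen' : zpowers (t : Γ) ⊔ zpowers (g * (t : Γ) * g⁻¹) = ⊤ := by
    refine top_le_iff.mp (hgen ▸ sup_le_sup hPeq.le ?_)
    exact (map_mono hPeq.le).trans (le_of_eq (MonoidHom.map_zpowers _ _))
  refine ⟨fun x hx hx1 => Or.inl ?_, fun V _ hVp hV1 hle _ => ?_⟩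
  · obtain ⟨e, he⟩ := prod_two ht2 ht' hgen' hx hx1
    refine ⟨e, 1, e * t * e⁻¹, ⟨t, t.2, rfl⟩, t, ?_, he⟩
    rw [cj_eq (one_mem (normalizer (P : Set Γ)))]
    exact t.2
  · refine Subgroup.eq_of_le_of_card_ge (fun v hv => ?_) ?_
    · refine hPeq.ge (centralizer_two ht2 ht' hgen' hcore ?_)
      have h1 : v * t * v⁻¹ ∈ P := (mem_normalizer_iff.mp (hle hv) _).mp t.2
      classical
      replace h1 := mem_zpowers_iff_mem_range_orderOf.mp (hPeq.le h1)
      simp only [Subgroup.orderOf_coe, ht, Finset.mem_image, Finset.mem_range] at h1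
      obtain ⟨i, hi, e⟩ := h1
      interval_cases i
      · rw [pow_zero, eq_comm, mul_inv_eq_one, mul_eq_left] at e
        rw [e, mul_one, one_mul]
      · rw [pow_one] at e
        exact mul_inv_eq_iff_eq_mul.mp e.symm
    · rw [hcard]
      exact (one_lt_card_iff_ne_bot V).mpr hV1

theorem ans_sl2 {F : Type*} [Field F] [Fintype F] (P : Subgroup (Matrix.SpecialLinearGroup (Fin 2) F))
    (hP : IsPGroup p P) (hcard : Nat.card P = Fintype.card F) : Ans p P := by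
  have hF : p ∣ Fintype.card F := by
    obtain ⟨k, hk⟩ := IsPGroup.iff_card.mp hP
    have h1 : 1 < Fintype.card F := Fintype.one_lt_card
    rw [← hcard, hk] at h1 ⊢
    exact dvd_pow_self p (fun h0 => by rw [h0, pow_zero] at h1; exact lt_irrefl 1 h1)
  haveI : CharP F p := by
    obtain ⟨r, hr⟩ := CharP.exists F
    haveI := hr
    obtain ⟨n, hrp, hn⟩ := FiniteField.card F r
    rw [hn] at hF
    obtain rfl := (Nat.prime_dvd_prime_iff_eq hp.out hrp).1 (hp.out.dvd_of_dvd_pow hF)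
    exact hr
  obtain ⟨g, hg⟩ := sl2_eq_up hF P hP hcard
  have hup : ∀ e, cj e (upSub (F := F)) = cj (e * g⁻¹) P := fun e => by
    rw [hg, cj_cj, inv_mul_cancel_right]
  have hU : ∀ x, UProd x → PrdIn P x := by
    rintro x ⟨e1, e2, v1, h1, v2, h2, he⟩
    exact ⟨e1 * g⁻¹, e2 * g⁻¹, v1, hup e1 ▸ h1, v2, hup e2 ▸ h2, he⟩
  refine ⟨fun x hx hx1 => ?_, fun V hV _ hV1 hle hn => ?_⟩
  · rcases sl2_cases hF hx hx1 with h | ⟨h2, w1, w2, hw⟩
    · exact Or.inl (hU _ h)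
    · refine Or.inr ⟨h2, w1, w2, fun w hw' => ?_⟩
      obtain ⟨a, b, c, d⟩ := hw w hw'
      exact ⟨a, b, hU _ c, d⟩
  · refine sl2_irreducible hF P V hP hcard ?_ hV1 hn
    obtain ⟨e, he⟩ := sl2_le_up hF (V ⊔ P) (hV.to_sup_of_normal_right' hP hle)
    have h := Subgroup.eq_of_le_of_card_ge (le_sup_right.trans he) (by
      rw [Cfsg.Lib.Transfer.card_map_conj, card_upSub, hcard])
    rw [h]
    exact le_sup_left.trans he

theorem ans_sz {F : Type*} [Field F] [Fintype F] {m : ℕ} (hQ : Cfsg.Lib.Suz.Par F m)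
    (P : Subgroup (Cfsg.Sz F m)) (hP : ∀ x ∈ P, x ^ 2 = 1) (hcard : Nat.card P = Fintype.card F) : Ans 2 P := by
  haveI : Fact (Nat.Prime 2) := ⟨Nat.prime_two⟩
  refine ⟨fun x hx hx1 => Or.inl ?_, fun V hV hVp hV1 hle hn => sz_irreducible hQ P V hP hcard ?_ hV1 hn⟩
  · obtain ⟨s, t, hs, ht, he⟩ := sz_two_involutions hQ hx hx1
    obtain ⟨e1, he1⟩ := sz_involution_conj hQ P hP hcard hs
    obtain ⟨e2, he2⟩ := sz_involution_conj hQ P hP hcard ht
    exact ⟨e1, e2, s, he1, t, he2, he⟩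
  · have hPp : IsPGroup 2 P := fun x => ⟨1, Subtype.ext (by simpa using hP x x.2)⟩
    obtain ⟨S, hS⟩ := (hV.to_sup_of_normal_right' hPp hle).exists_le_sylow
    obtain ⟨c, hc⟩ := Cfsg.Lib.Suz.exists_conj hQ S
    have hform : ∀ x ∈ (S : Subgroup (Cfsg.Sz F m)), x ^ 2 = 1 → ∃ b : F, c * x * c⁻¹ = Cfsg.Lib.Suz.uu hQ 0 b := by
      intro x hx hx2
      obtain ⟨a, b, e⟩ := Cfsg.Lib.Suz.exists_uu hQ ((hc x).1 hx)
      have h1 : Cfsg.Lib.Suz.uu hQ a b ^ 2 = 1 := by rw [← e, conj_pow, hx2, mul_one, mul_inv_cancel]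
      rw [Cfsg.Lib.Suz.uu_sq, ← Cfsg.Lib.Suz.uu_zero hQ] at h1
      have ha : a = 0 := eq_zero_of_pow_eq_zero (Cfsg.Lib.Suz.uu_inj hQ h1).2
      exact ⟨b, by rw [e, ha]⟩
    let g : P → F := fun x => Classical.choose (hform x (hS (mem_sup_right x.2)) (hP x x.2))
    have hg : ∀ x : P, c * (x : Cfsg.Sz F m) * c⁻¹ = Cfsg.Lib.Suz.uu hQ 0 (g x) := fun x =>
      Classical.choose_spec (hform x (hS (mem_sup_right x.2)) (hP x x.2))
    have hginj : Function.Injective g := fun x y e => Subtype.ext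
      (mul_left_cancel (mul_right_cancel ((hg x).trans ((congrArg (Cfsg.Lib.Suz.uu hQ 0) e).trans (hg y).symm))))
    have hbij : Function.Bijective g :=
      (Nat.bijective_iff_injective_and_card g).2 ⟨hginj, by rw [hcard, Nat.card_eq_fintype_card]⟩
    intro v hv
    obtain ⟨b, hb⟩ := hform v (hS (mem_sup_left hv)) (hVp v hv)
    obtain ⟨y, rfl⟩ := hbij.2 b
    rw [← hg y] at hb
    rw [mul_left_cancel (mul_right_cancel hb)]
    exact y.2

end Cfsg.Lib.FrakL
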