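import Cfsg.Agent.Components.Reduced.FrakH
import Cfsg.Agent.Components.Misc.PIrr

/-!
The quadratic action of the groups of `𝔏(Y)` on their cores.
-/

set_option linter.style.haveILetI false
set_option linter.unusedSectionVars false

namespace Cfsg.Lib.FrakL

open Subgroup Cfsg.Lib.Asymmetric
open scoped commutatorElement

variable {Γ : Type*} [Group Γ] [Finite Γ] {p : ℕ} [hp : Fact p.Prime]

/-- the abstract situation, the central part having been factored out -/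
structure Quad (p : ℕ) (Y A : Subgroup Γ) : Prop where
  yp : IsPGroup p Y
  yab : ∀ a ∈ Y, ∀ b ∈ Y, a * b = b * a
  an : A.Normal
  ap : IsPGroup p A
  ay : A ≤ normalizer (Y : Set Γ)
  uniq : ∀ X : Subgroup Γ, Y ≤ X → X ≠ ⊤ → X ≤ normalizer (Y : Set Γ)
  gen : normalClosure (Y : Set Γ) = ⊤
  notNormal : normalizer (Y : Set Γ) ≠ ⊤
  acl : A ≤ normalClosure ((Y ⊓ A : Subgroup Γ) : Set Γ)
  cent : Y ⊓ center Γ = ⊥
  charp : centralizer (A : Set Γ) ≤ A

variable {Y A : Subgroup Γ}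

theorem self_normalizing (h : Quad p Y A) :
    normalizer ((normalizer (Y : Set Γ) : Subgroup Γ) : Set Γ) = normalizer (Y : Set Γ) := by
  refine le_antisymm (h.uniq _ (le_normalizer.trans le_normalizer) fun e => ?_) le_normalizer
  haveI := normalizer_eq_top_iff.1 e
  exact h.notNormal (top_le_iff.1 (h.gen ▸ normalClosure_le_normal (SetLike.coe_subset_coe.mpr le_normalizer)))

theorem gen_pair (h : Quad p Y A) {c d : Γ} (hcd : c⁻¹ * d ∉ normalizer (Y : Set Γ)) :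
    cj c Y ⊔ cj d Y = ⊤ := by
  by_contra hne
  set g := c⁻¹ * d
  set N := normalizer (Y : Set Γ)
  have h1 : Y ⊔ cj g Y ≠ ⊤ := fun e => hne (by
    have := congrArg (Subgroup.map (MulAut.conj c).toMonoidHom) e
    rw [Subgroup.map_sup, map_top_of_surjective (MulAut.conj c).toMonoidHom (MulAut.conj c).surjective] at this
    change cj c Y ⊔ cj c (cj g Y) = ⊤ at this
    rwa [cj_cj, mul_inv_cancel_left] at this)
  have h2 : cj g Y ≤ N := le_sup_right.trans (h.uniq _ le_sup_left h1)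
  have h3 : Y ≤ cj g⁻¹ N := by
    have := map_mono (f := (MulAut.conj g⁻¹).toMonoidHom) h2
    change cj g⁻¹ (cj g Y) ≤ cj g⁻¹ N at this
    rwa [cj_cj, inv_mul_cancel, cj_eq (one_mem (normalizer (Y : Set Γ)))] at this
  have h4 : cj g⁻¹ N ≤ N := h.uniq _ h3 fun e => h.notNormal (by
    refine top_le_iff.1 ?_
    have := congrArg (Subgroup.map (MulAut.conj g).toMonoidHom) e
    rw [map_top_of_surjective (MulAut.conj g).toMonoidHom (MulAut.conj g).surjective] at this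
    change cj g (cj g⁻¹ N) = ⊤ at this
    rw [cj_cj, mul_inv_cancel, cj_eq (one_mem (normalizer (N : Set Γ)))] at this
    exact this.ge)
  have h5 : g⁻¹ ∈ normalizer (N : Set Γ) := mem_normalizer_iff_map_conj_eq.mpr
    (Subgroup.eq_of_le_of_card_ge h4 (Cfsg.Lib.Transfer.card_map_conj N g⁻¹).ge)
  rw [self_normalizing h] at h5
  exact hcd (by simpa using inv_mem h5)

theorem gen_one (h : Quad p Y A) {g : Γ} (hg : g ∉ normalizer (Y : Set Γ)) : Y ⊔ cj g Y = ⊤ := by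
  have := gen_pair h (c := 1) (d := g) (by simpa using hg)
  rwa [cj_eq (one_mem (normalizer (Y : Set Γ)))] at this

theorem disj (h : Quad p Y A) {g : Γ} (hg : g ∉ normalizer (Y : Set Γ)) : Y ⊓ cj g Y = ⊥ := by
  rw [eq_bot_iff, ← h.cent]
  intro x hx
  obtain ⟨hxY, hxg⟩ := mem_inf.mp hx
  refine mem_inf.mpr ⟨hxY, ?_⟩
  have hle : Y ⊔ cj g Y ≤ centralizer ({x} : Set Γ) := by
    refine sup_le (fun y hy => mem_centralizer_singleton_iff.mpr (h.yab y hy x hxY)) ?_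
    rintro _ ⟨y, hy, rfl⟩
    obtain ⟨x', hx', rfl⟩ := hxg
    refine mem_centralizer_singleton_iff.mpr ?_
    rw [← map_mul, ← map_mul, h.yab y hy x' hx']
  rw [gen_one h hg] at hle
  exact mem_center_iff.mpr fun z => mem_centralizer_singleton_iff.mp (hle (mem_top z))

theorem A_le_conj (h : Quad p Y A) (c : Γ) : A ≤ normalizer ((cj c Y : Subgroup Γ) : Set Γ) := by
  have := cj_normalizer (a := c) h.ay
  rwa [cj_eq ((normalizer_eq_top_iff.2 h.an).ge (mem_top c))] at this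

theorem span (h : Quad p Y A) {g : Γ} (hg : g ∉ normalizer (Y : Set Γ)) :
    A ≤ (Y ⊓ A) ⊔ (cj g Y ⊓ A) := by
  set W := (Y ⊓ A) ⊔ (cj g Y ⊓ A)
  have hn : A ≤ normalizer (A : Set Γ) := le_normalizer
  have htop : ∀ X : Subgroup Γ, X ≤ normalizer (A : Set Γ) := fun X =>
    le_top.trans (normalizer_eq_top_iff.2 h.an).ge
  have key : ∀ (c d : Γ), cj c Y ⊔ cj d Y ≤ normalizer (((cj c Y ⊓ A) ⊔ (cj d Y ⊓ A) : Subgroup Γ) : Set Γ) := by
    have one : ∀ (c d : Γ), cj c Y ≤ normalizer (((cj c Y ⊓ A) ⊔ (cj d Y ⊓ A) : Subgroup Γ) : Set Γ) := by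
      intro c d y hy
      rw [mem_normalizer_iff_map_conj_eq]
      refine Subgroup.eq_of_le_of_card_ge ?_ (Cfsg.Lib.Transfer.card_map_conj _ y).ge
      rw [Subgroup.map_sup]
      refine sup_le ((mem_normalizer_iff_map_conj_eq.1 (Cfsg.Lib.Coprime.le_normalizer_inf le_normalizer (htop _) hy)).le.trans
        le_sup_left) ?_
      rintro _ ⟨z, hz, rfl⟩
      show y * z * y⁻¹ ∈ _
      rw [show y * z * y⁻¹ = ⁅y, z⁆ * z by group]
      refine mul_mem_sup (mem_inf.mpr ⟨?_, ?_⟩) hz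
      · exact le_normalizer_iff_commutator_le_left.mp (A_le_conj h c)
          (commutator_mem_commutator hy (mem_inf.mp hz).2)
      · exact le_normalizer_iff_commutator_le_right.mp (htop _)
          (commutator_mem_commutator hy (mem_inf.mp hz).2)
    intro c d
    refine sup_le (one c d) ?_
    rw [sup_comm (cj c Y ⊓ A)]
    exact one d c
  have h1 := key 1 g
  rw [cj_eq (one_mem (normalizer (Y : Set Γ))), gen_one h hg] at h1
  haveI : W.Normal := normalizer_eq_top_iff.1 (top_le_iff.1 h1)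
  exact h.acl.trans (normalClosure_le_normal (SetLike.coe_subset_coe.mpr le_sup_left))

theorem abelian (h : Quad p Y A) : A ≤ centralizer (A : Set Γ) := by
  obtain ⟨g, hg⟩ : ∃ g, g ∉ normalizer (Y : Set Γ) := by
    by_contra hc
    push Not at hc
    exact h.notNormal (eq_top_iff.mpr fun x _ => hc x)
  have htop : ∀ X : Subgroup Γ, X ≤ normalizer (A : Set Γ) := fun X =>
    le_top.trans (normalizer_eq_top_iff.2 h.an).ge
  have hc : ⁅Y ⊓ A, cj g Y ⊓ A⁆ = ⊥ := le_bot_iff.mp ((le_inf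
    ((commutator_mono inf_le_left inf_le_right).trans (le_normalizer_iff_commutator_le_left.mp h.ay))
    ((commutator_mono inf_le_right inf_le_left).trans
      (le_normalizer_iff_commutator_le_right.mp (A_le_conj h g)))).trans (disj h hg).le)
  have h12 : Y ⊓ A ≤ centralizer ((cj g Y ⊓ A : Subgroup Γ) : Set Γ) := commutator_eq_bot_iff_le_centralizer.mp hc
  have hW : A = (Y ⊓ A) ⊔ (cj g Y ⊓ A) := le_antisymm (span h hg) (sup_le inf_le_right inf_le_right)
  have hd : ∀ V : Subgroup Γ, A ≤ centralizer (V : Set Γ) → V ≤ centralizer (A : Set Γ) := fun V => le_centralizer_iff.mp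
  conv_lhs => rw [hW]
  refine sup_le (hd _ ?_) (hd _ ?_)
  · conv_lhs => rw [hW]
    exact sup_le (fun x hx => mem_centralizer_iff.mpr fun y hy => h.yab y (mem_inf.mp hy).1 x (mem_inf.mp hx).1)
      (le_centralizer_iff.mp h12)
  · conv_lhs => rw [hW]
    refine sup_le h12 fun x hx => mem_centralizer_iff.mpr fun y hy => ?_
    obtain ⟨x', hx', rfl⟩ := (mem_inf.mp hx).1
    obtain ⟨y', hy', rfl⟩ := (mem_inf.mp hy).1
    rw [← map_mul, ← map_mul, h.yab y' hy' x' hx']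

theorem fix_one (h : Quad p Y A) {y a : Γ} (hy : y ∈ Y) (hyA : y ∉ A) (ha : a ∈ A) (hc : y * a = a * y) :
    a ∈ Y := by
  obtain ⟨g, hg⟩ : ∃ g, g ∉ normalizer (Y : Set Γ) := by
    by_contra hc'
    push Not at hc'
    exact h.notNormal (eq_top_iff.mpr fun x _ => hc' x)
  have hA := span h hg ha
  rw [← SetLike.mem_coe, Subgroup.coe_mul_of_right_le_normalizer_left _ _
    ((inf_le_right.trans (abelian h)).trans ((centralizer_le (SetLike.coe_subset_coe.mpr inf_le_right)).trans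
      (centralizer_le_normalizer _)))] at hA
  obtain ⟨v1, hv1, v2, hv2, rfl⟩ := hA
  have hy1 : y * v1 = v1 * y := h.yab y hy v1 (mem_inf.mp hv1).1
  have hy2 : y * v2 = v2 * y := by
    have := hc
    rw [← mul_assoc, hy1, mul_assoc, mul_assoc] at this
    exact mul_left_cancel this
  suffices v2 = 1 by simpa [this] using (mem_inf.mp hv1).1
  by_cases hn : y ∈ normalizer ((cj g Y : Subgroup Γ) : Set Γ)
  · exfalso
    refine hyA (h.charp ?_)
    have hle : (Y ⊓ A) ⊔ (cj g Y ⊓ A) ≤ centralizer ({y} : Set Γ) := by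
      refine sup_le (fun v hv => mem_centralizer_singleton_iff.mpr (h.yab v (mem_inf.mp hv).1 y hy)) fun v hv => ?_
      refine mem_centralizer_singleton_iff.mpr (commutatorElement_eq_one_iff_mul_comm.mp ?_)
      refine mem_bot.mp ((disj h hg).le (mem_inf.mpr ⟨?_, ?_⟩))
      · rw [commutatorElement_def]
        refine mul_mem ?_ (inv_mem hy)
        exact (mem_normalizer_iff.mp (h.ay (mem_inf.mp hv).2) y).mp hy
      · rw [show ⁅v, y⁆ = v * (y * v⁻¹ * y⁻¹) by group]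
        exact mul_mem (mem_inf.mp hv).1 ((mem_normalizer_iff.mp hn _).mp (inv_mem (mem_inf.mp hv).1))
    exact mem_centralizer_iff.mpr fun v hv => mem_centralizer_singleton_iff.mp (hle (span h hg hv))
  · have hX : zpowers y ⊔ cj g Y = ⊤ := by
      by_contra hne
      refine hn ?_
      set X := cj g⁻¹ (zpowers y ⊔ cj g Y)
      have hYX : Y ≤ X := by
        refine le_trans ?_ (map_mono le_sup_right)
        change Y ≤ cj g⁻¹ (cj g Y)
        rw [cj_cj, inv_mul_cancel, cj_eq (one_mem (normalizer (Y : Set Γ)))]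
      have hXne : X ≠ ⊤ := fun e => hne (by
        have := congrArg (Subgroup.map (MulAut.conj g).toMonoidHom) e
        rw [map_top_of_surjective (MulAut.conj g).toMonoidHom (MulAut.conj g).surjective] at this
        change cj g (cj g⁻¹ _) = ⊤ at this
        rwa [cj_cj, mul_inv_cancel, cj_eq (one_mem (normalizer ((zpowers y ⊔ cj g Y : Subgroup Γ) : Set Γ)))] at this)
      have h2 := cj_normalizer (a := g) (h.uniq X hYX hXne)
      rw [cj_cj, mul_inv_cancel, cj_eq (one_mem (normalizer ((zpowers y ⊔ cj g Y : Subgroup Γ) : Set Γ)))] at h2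
      exact h2 (mem_sup_left (mem_zpowers y))
    have hle : zpowers y ⊔ cj g Y ≤ centralizer ({v2} : Set Γ) := by
      refine sup_le (zpowers_le.mpr (mem_centralizer_singleton_iff.mpr hy2)) ?_
      obtain ⟨v, hv, rfl⟩ := (mem_inf.mp hv2).1
      rintro _ ⟨z, hz, rfl⟩
      refine mem_centralizer_singleton_iff.mpr ?_
      rw [← map_mul, ← map_mul, h.yab z hz v hv]
    rw [hX] at hle
    have hv2c : v2 ∈ center Γ := mem_center_iff.mpr fun z => mem_centralizer_singleton_iff.mp (hle (mem_top z))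
    obtain ⟨v, hv, e⟩ := (mem_inf.mp hv2).1
    have e' : g * v * g⁻¹ = v2 := e
    have hvc : v = v2 := by
      rw [← e', show g * v * g⁻¹ = v2 from e']
      have := mem_center_iff.mp hv2c g
      calc v = g⁻¹ * (g * v * g⁻¹) * g := by group
        _ = g⁻¹ * (v2 * g) := by rw [e', mul_assoc]
        _ = v2 := by rw [← this, inv_mul_cancel_left]
    exact mem_bot.mp (h.cent.le (mem_inf.mpr ⟨hvc ▸ hv, hv2c⟩))

theorem fix_conj (h : Quad p Y A) {c y a : Γ} (hy : y ∈ cj c Y) (hyA : y ∉ A) (ha : a ∈ A) (hc : y * a = a * y) :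
    a ∈ cj c Y := by
  obtain ⟨y', hy', rfl⟩ := hy
  refine ⟨c⁻¹ * a * c, fix_one h hy' (fun hA => hyA (h.an.conj_mem y' hA c)) ?_ ?_, ?_⟩
  · simpa using h.an.conj_mem a ha c⁻¹
  · have hc' : c * y' * c⁻¹ * a = a * (c * y' * c⁻¹) := hc
    calc y' * (c⁻¹ * a * c) = c⁻¹ * (c * y' * c⁻¹ * a) * c := by group
      _ = c⁻¹ * a * c * y' := by rw [hc']; group
  · show c * (c⁻¹ * a * c) * c⁻¹ = a
    group

/-- a product of two elements of distinct conjugates has no fixed point -/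
theorem fix_prod (h : Quad p Y A) {c d y₁ y₂ a : Γ} (hcd : c⁻¹ * d ∉ normalizer (Y : Set Γ))
    (h1 : y₁ ∈ cj c Y) (h1A : y₁ ∉ A) (h2 : y₂ ∈ cj d Y) (h2A : y₂ ∉ A) (ha : a ∈ A)
    (hc : y₁ * y₂ * a = a * (y₁ * y₂)) : a = 1 := by
  have hd : cj c Y ⊓ cj d Y = ⊥ := by
    have := congrArg (Subgroup.map (MulAut.conj c).toMonoidHom) (disj h hcd)
    rw [Subgroup.map_bot, Subgroup.map_inf _ _ _ (MulAut.conj c).injective] at this
    change cj c Y ⊓ cj c (cj (c⁻¹ * d) Y) = ⊥ at this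
    rwa [cj_cj, mul_inv_cancel_left] at this
  have e : y₂ * a * y₂⁻¹ * a⁻¹ = y₁⁻¹ * a * y₁ * a⁻¹ := by
    calc y₂ * a * y₂⁻¹ * a⁻¹ = y₁⁻¹ * (y₁ * y₂ * a) * y₂⁻¹ * a⁻¹ := by group
      _ = y₁⁻¹ * a * y₁ * a⁻¹ := by rw [hc]; group
  have hm : y₂ * a * y₂⁻¹ * a⁻¹ = 1 := by
    refine mem_bot.mp (hd.le (mem_inf.mpr ⟨?_, ?_⟩))
    · rw [e, show y₁⁻¹ * a * y₁ * a⁻¹ = y₁⁻¹ * (a * y₁ * a⁻¹) by group]
      exact mul_mem (inv_mem h1) ((mem_normalizer_iff.mp (A_le_conj h c ha) y₁).mp h1)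
    · rw [show y₂ * a * y₂⁻¹ * a⁻¹ = y₂ * (a * y₂⁻¹ * a⁻¹) by group]
      exact mul_mem h2 ((mem_normalizer_iff.mp (A_le_conj h d ha) _).mp (inv_mem h2))
  have hc2 : y₂ * a = a * y₂ := commutatorElement_eq_one_iff_mul_comm.mp hm
  have hc1 : y₁ * a = a * y₁ := by
    have := hc
    rw [mul_assoc, hc2, ← mul_assoc, ← mul_assoc] at this
    exact mul_right_cancel this
  exact mem_bot.mp (hd.le (mem_inf.mpr ⟨fix_conj h h1 h1A ha hc1, fix_conj h h2 h2A ha hc2⟩))

/-- elements that act like products of two elements of distinct conjugates -/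
def Mixed (Y A : Subgroup Γ) (x : Γ) : Prop :=
  ∃ c d : Γ, c⁻¹ * d ∉ normalizer (Y : Set Γ) ∧ ∃ y₁ ∈ cj c Y, y₁ ∉ A ∧ ∃ y₂ ∈ cj d Y, y₂ ∉ A ∧ (y₁ * y₂)⁻¹ * x ∈ A

theorem mod_A (h : Quad p Y A) {x x' a : Γ} (hx : x⁻¹ * x' ∈ A) (ha : a ∈ A) (hc : x' * a = a * x') :
    x * a = a * x := by
  have hA : (x⁻¹ * x') * a = a * (x⁻¹ * x') := (mem_centralizer_iff.mp (abelian h hx) a ha).symm
  calc x * a = x * (a * (x⁻¹ * x')) * (x⁻¹ * x')⁻¹ := by group
    _ = x' * a * (x⁻¹ * x')⁻¹ := by rw [← hA]; group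
    _ = a * x := by rw [hc]; group

theorem fix_mixed (h : Quad p Y A) {x a : Γ} (hx : Mixed Y A x) (ha : a ∈ A) (hc : x * a = a * x) : a = 1 := by
  obtain ⟨c, d, hcd, y1, h1, h1A, y2, h2, h2A, hxA⟩ := hx
  exact fix_prod h hcd h1 h1A h2 h2A ha (mod_A h hxA ha hc)

/-- the central involution of the quotient -/
theorem fix_scalar (h : Quad p Y A) (hp2 : p ≠ 2) {z a w₁ w₂ : Γ} (hw1 : Mixed Y A w₁) (hw2 : Mixed Y A w₂)
    (hw3 : Mixed Y A (w₁ * w₂)) (e1 : (w₁ * w₁)⁻¹ * z ∈ A) (e2 : (w₂ * w₂)⁻¹ * z ∈ A)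
    (e3 : (w₁ * w₂ * (w₁ * w₂))⁻¹ * z ∈ A) (ha : a ∈ A) (hc : z * a = a * z) : a = 1 := by
  have hAn := h.an
  have key : ∀ w, Mixed Y A w → (w * w)⁻¹ * z ∈ A → ∀ b ∈ A, w * w * b = b * (w * w) → w * b * w⁻¹ = b⁻¹ := by
    intro w hw _ b hb hb2
    have hwb : w * b * w⁻¹ ∈ A := hAn.conj_mem b hb w
    have hbb : b * (w * b * w⁻¹) = w * b * w⁻¹ * b := (mem_centralizer_iff.mp (abelian h hb) _ hwb).symm
    have h1 : b * (w * b * w⁻¹) = 1 := by
      refine fix_mixed h hw (mul_mem hb hwb) ?_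
      calc w * (b * (w * b * w⁻¹)) = w * b * w⁻¹ * ((w * w) * b * (w * w)⁻¹) * w := by group
        _ = w * b * w⁻¹ * b * w := by rw [hb2, mul_inv_cancel_right]
        _ = b * (w * b * w⁻¹) * w := by rw [hbb]
    exact (eq_inv_of_mul_eq_one_right h1)
  have hsq : ∀ w, (w * w)⁻¹ * z ∈ A → w * w * a = a * (w * w) := fun w hw => mod_A h hw ha hc
  have a1 := key w₁ hw1 e1 a ha (hsq _ e1)
  have a2 := key w₂ hw2 e2 a ha (hsq _ e2)
  have a3 := key (w₁ * w₂) hw3 e3 a ha (hsq _ e3)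
  have a4 : a⁻¹ = a := by
    calc a⁻¹ = w₁ * w₂ * a * (w₁ * w₂)⁻¹ := a3.symm
      _ = w₁ * (w₂ * a * w₂⁻¹) * w₁⁻¹ := by group
      _ = (w₁ * a * w₁⁻¹)⁻¹ := by rw [a2]; group
      _ = a := by rw [a1, inv_inv]
  have hsq2 : a ^ 2 = 1 := by
    rw [pow_two]
    nth_rewrite 1 [← a4]
    exact inv_mul_cancel a
  obtain ⟨k, hk⟩ := h.ap ⟨a, ha⟩
  refine orderOf_eq_one_iff.mp (Nat.eq_one_of_dvd_coprimes ?_ (orderOf_dvd_of_pow_eq_one (congrArg Subtype.val hk))
    (orderOf_dvd_of_pow_eq_one hsq2))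
  exact ((Nat.coprime_primes hp.out Nat.prime_two).mpr hp2).pow_left k

end Cfsg.Lib.FrakL
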