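import Cfsg.Agent.Components.FrakL.Reduce
import Cfsg.Agent.Components.FrakL.Cases
import Cfsg.Agent.Components.Reduced.BasicProperty

/-!
Members of `𝔏_G(Y_M)`: the action on the core and the image of `Y_M` in the normalizer.
-/

set_option linter.style.haveILetI false
set_option linter.unusedSectionVars false

namespace Cfsg.Lib.FrakL

open Subgroup Cfsg.Lib.Asymmetric
open scoped commutatorElement

variable {G : Type*} [Group G] [Finite G] {p : ℕ} [hp : Fact p.Prime] {M L : Subgroup G}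

theorem largest_elem :
    (∀ a ∈ Cfsg.largestPReducedOf p M, ∀ b ∈ Cfsg.largestPReducedOf p M, a * b = b * a) ∧
      ∀ a ∈ Cfsg.largestPReducedOf p M, a ^ p = 1 := by
  obtain ⟨hab, hpow⟩ := (Cfsg.Lib.Reduced.largest_isReduced (p := p) (G := M)).2.1
  refine ⟨?_, ?_⟩
  · rintro _ ⟨a, ha, rfl⟩ _ ⟨b, hb, rfl⟩
    rw [← map_mul, ← map_mul]
    exact congrArg M.subtype (congrArg Subtype.val (hab.is_comm.comm ⟨a, ha⟩ ⟨b, hb⟩))
  · rintro _ ⟨a, ha, rfl⟩
    rw [← map_pow, hpow a ha, map_one]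

theorem pre (hL : Cfsg.IsInFrakL p M L) :
    Pre p ((Cfsg.largestPReducedOf p M).subgroupOf L) (Cfsg.pCore p L) := by
  obtain ⟨hYL, hacl, hnorm, hmin, hch, ⟨hlt, hu⟩, -⟩ := hL
  obtain ⟨hab, hpow⟩ := largest_elem (p := p) (M := M)
  set Y := Cfsg.largestPReducedOf p M
  have hYn : ∀ x : L, (x : G) ∈ normalizer (Y : Set G) → x ∈ normalizer ((Y.subgroupOf L : Subgroup L) : Set L) :=
    fun x hx => Cfsg.Lib.Large.mem_normalizer_of_le _ fun y hy => (mem_normalizer_iff.mp hx _).mp hy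
  refine ⟨fun x => ⟨1, Subtype.ext (Subtype.ext (by simpa using hpow _ x.2))⟩,
    fun a ha b hb => Subtype.ext (hab _ ha _ hb), rfl, fun a ha => hYn a (hnorm ⟨a, ha, rfl⟩), fun X hYX hX x hx => ?_,
    hmin.1, fun e => ?_, ?_, hch⟩
  · refine hYn x (mem_inf.mp (hu (X.map L.subtype) (fun y hy => ⟨⟨y, hYL hy⟩, hYX hy, rfl⟩)
      (lt_of_le_of_ne (map_subtype_le X) fun e => hX (map_injective L.subtype_injective ?_))
      ⟨x, hx, rfl⟩)).2
    rw [e, ← MonoidHom.range_eq_map, range_subtype]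
  · refine hlt.ne (inf_eq_left.mpr fun g hg => Cfsg.Lib.Large.mem_normalizer_of_le Y fun y hy => ?_)
    exact (mem_normalizer_iff.mp (e ▸ mem_top (⟨g, hg⟩ : L)) ⟨y, hYL hy⟩).mp hy
  · have hO : (Cfsg.pCoreOf p L).subgroupOf L = Cfsg.pCore p L :=
      comap_map_eq_self_of_injective L.subtype_injective _
    have h1 : (Y ⊓ Cfsg.pCoreOf p L).subgroupOf L = Y.subgroupOf L ⊓ Cfsg.pCore p L := by
      rw [← hO]; rfl
    rw [h1] at hacl
    exact (map_injective L.subtype_injective hacl).le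

theorem exists_gen {Λ : Type*} [Group Λ] {Y A : Subgroup Λ} (h : Pre p Y A) {Q : Type*} [Group Q] (f : Λ →* Q)
    (hf : Function.Surjective f) : ∃ g : Q, Y.map f ⊔ cj g (Y.map f) = ⊤ := by
  by_contra hc
  push Not at hc
  refine h.notNormal ?_
  rw [← top_le_iff, ← h.gen, normalClosure, closure_le]
  intro z hz
  obtain ⟨y, hy, hyz⟩ := Group.mem_conjugatesOfSet_iff.1 hz
  obtain ⟨c, rfl⟩ := isConj_iff.1 hyz
  refine h.uniq ((Y.map f ⊔ cj (f c) (Y.map f)).comap f) (map_le_iff_le_comap.mp le_sup_left)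
    (fun e => hc (f c) ?_) ?_
  · rw [← map_comap_eq_self_of_surjective hf (Y.map f ⊔ cj (f c) (Y.map f)), e, map_top_of_surjective f hf]
  · exact mem_comap.mpr (mem_sup_right ⟨f y, mem_map_of_mem f hy, by simp⟩)

theorem card_two_of_dvd {Q : Type*} [Group Q] [Finite Q] (P : Subgroup Q) (hP : IsPGroup 2 P) (hP1 : P ≠ ⊥)
    {r : ℕ} (hr : r.Prime) (hr2 : r ≠ 2) (hcard : Nat.card Q = 2 * r) : Nat.card P = 2 := by
  haveI : Fact (Nat.Prime 2) := ⟨Nat.prime_two⟩
  obtain ⟨k, hk⟩ := IsPGroup.iff_card.mp hP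
  have hdvd : 2 ^ k ∣ 2 * r := hk ▸ hcard ▸ P.card_subgroup_dvd_card
  have h1 : 1 < Nat.card P := (one_lt_card_iff_ne_bot P).mpr hP1
  rw [hk] at h1 ⊢
  match k with
  | 0 => exact absurd h1 (by norm_num)
  | 1 => rfl
  | n + 2 =>
    rw [pow_succ', Nat.mul_dvd_mul_iff_left two_pos, pow_succ'] at hdvd
    exact absurd ((Nat.prime_dvd_prime_iff_eq Nat.prime_two hr).mp (dvd_of_mul_right_dvd hdvd)).symm hr2

theorem quotient_ans [hN : (Cfsg.pCore p L).Normal] (hL : Cfsg.IsInFrakL p M L) :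
    (((Cfsg.largestPReducedOf p M).subgroupOf L).map (QuotientGroup.mk' (Cfsg.pCore p L)) ≠ ⊥) ∧
      Ans p (((Cfsg.largestPReducedOf p M).subgroupOf L).map (QuotientGroup.mk' (Cfsg.pCore p L))) := by
  have h := pre hL
  obtain ⟨hYL, -, -, -, -, -, hcases⟩ := hL
  obtain ⟨-, hpow⟩ := largest_elem (p := p) (M := M)
  set Y := Cfsg.largestPReducedOf p M
  set A := Cfsg.pCore p L
  set P := (Y.subgroupOf L).map (QuotientGroup.mk' A) with hPdef
  have hPpow : ∀ x ∈ P, x ^ p = 1 := by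
    rintro _ ⟨x, hx, rfl⟩
    rw [← map_pow, show x ^ p = 1 from Subtype.ext (hpow _ hx), map_one]
  have hP1 : P ≠ ⊥ := fun e => by
    rw [hPdef, Subgroup.map_eq_bot_iff, QuotientGroup.ker_mk'] at e
    refine h.notNormal (top_le_iff.mp ?_)
    rw [← h.gen]
    exact (normalClosure_le_normal e).trans h.ay
  have hcard : Nat.card P = (Y ⊓ Cfsg.pCoreOf p L).relIndex Y := by
    have h1 : A = (Cfsg.pCoreOf p L).comap L.subtype :=
      (comap_map_eq_self_of_injective L.subtype_injective _).symm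
    have h2 : Nat.card P = A.relIndex (Y.subgroupOf L) := by
      conv_rhs => rw [← QuotientGroup.ker_mk' A, relIndex_ker]
    rw [h2, h1, relIndex_comap, map_subgroupOf_eq_of_le hYL, inf_relIndex_left]
  refine ⟨hP1, ?_⟩
  rcases hcases with ⟨F, iF, iFf, hF, ⟨e⟩⟩ | ⟨rfl, F, iF, iFf, m, hFm, hF, ⟨e⟩⟩ | ⟨rfl, r, hr, hr2, ⟨e⟩⟩
  · exact ans_equiv e P (ans_sl2 _ ((h.yp.map _).map _)
      (by rw [card_map_of_injective e.injective, hcard, hF]))
  · rcases Nat.eq_zero_or_pos m with rfl | hm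
    · obtain ⟨g, hg⟩ := exists_gen h (QuotientGroup.mk' A) (QuotientGroup.mk'_surjective A)
      exact ans_two P (by rw [hcard, ← hF, hFm]; rfl) Cfsg.Lib.FrakHQ.map_pCore_bot hg
    · have hQ : Cfsg.Lib.Suz.Par F m := ⟨hm, hFm⟩
      refine ans_equiv (e.trans (Cfsg.Lib.Suz.lieEquiv hQ).symm) P (ans_sz hQ _ ?_ ?_)
      · rintro _ ⟨x, hx, rfl⟩
        rw [← map_pow, hPpow x hx, map_one]
      · rw [card_map_of_injective (MulEquiv.injective _), hcard, hF]
  · obtain ⟨g, hg⟩ := exists_gen h (QuotientGroup.mk' A) (QuotientGroup.mk'_surjective A)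
    refine ans_two P (card_two_of_dvd P (h.yp.map _) hP1 hr hr2 ?_) Cfsg.Lib.FrakHQ.map_pCore_bot hg
    rw [Nat.card_congr e.toEquiv, DihedralGroup.nat_card]

theorem fixed (hL : Cfsg.IsInFrakL p M L) {h : G} (hh : h ∈ L) (hnp : ¬ ∃ k : ℕ, orderOf h = p ^ k) :
    ∀ a ∈ Cfsg.pCoreOf p L, h * a * h⁻¹ * a⁻¹ ∈ Cfsg.largestPReducedOf p M ⊓ centralizer (L : Set G) →
      a ∈ Cfsg.largestPReducedOf p M ⊓ centralizer (L : Set G) := by
  rintro _ ⟨a, ha, rfl⟩ hc
  obtain ⟨hc1, hc2⟩ := mem_inf.mp hc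
  haveI : (Cfsg.pCore p L).Normal := Cfsg.Lib.Components.pCore_normal' p
  obtain ⟨h1, h2⟩ := mem_inf.mp (fixed_free (pre hL) (QuotientGroup.mk' (Cfsg.pCore p L))
    (QuotientGroup.mk'_surjective _) (QuotientGroup.ker_mk' _) (quotient_ans hL).2.1 (t := (⟨h, hh⟩ : L))
    (by rw [← Subgroup.orderOf_coe]; exact hnp) ha
    (mem_inf.mpr ⟨hc1, mem_center_iff.mpr fun l => Subtype.ext (mem_centralizer_iff.mp hc2 l l.2)⟩))
  exact mem_inf.mpr ⟨h1, mem_centralizer_iff.mpr fun l hl => congrArg Subtype.val (mem_center_iff.mp h2 ⟨l, hl⟩)⟩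

theorem unique_elem (hL : Cfsg.IsInFrakL p M L) {NL : Subgroup G}
    (hNL : NL = L ⊓ normalizer (Cfsg.largestPReducedOf p M : Set G))
    [hn : ((Cfsg.pCoreOf p L).subgroupOf NL).Normal] :
    let Ybar : Subgroup (↥NL ⧸ (Cfsg.pCoreOf p L).subgroupOf NL) :=
      ((Cfsg.largestPReducedOf p M).subgroupOf NL).map (QuotientGroup.mk' ((Cfsg.pCoreOf p L).subgroupOf NL))
    Ybar ≠ ⊥ ∧ Ybar.Normal ∧ Cfsg.IsElementaryAbelian p Ybar ∧
      ∀ V : Subgroup (↥NL ⧸ (Cfsg.pCoreOf p L).subgroupOf NL),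
        V.Normal → Cfsg.IsElementaryAbelian p V → V ≠ ⊥ → V = Ybar := by
  intro Ybar
  have h := pre hL
  haveI hAn : (Cfsg.pCore p L).Normal := Cfsg.Lib.Components.pCore_normal' p
  obtain ⟨hP1, hans⟩ := quotient_ans hL
  obtain ⟨hab, hpow⟩ := largest_elem (p := p) (M := M)
  set Y := Cfsg.largestPReducedOf p M
  have hYL : Y ≤ L := hL.1
  have hYNL : Y ≤ NL := hNL ▸ le_inf hYL le_normalizer
  have hNLL : NL ≤ L := hNL ▸ inf_le_left
  set j := inclusion hNLL
  have hj : (Cfsg.pCoreOf p L).subgroupOf NL ≤ (Cfsg.pCore p L).comap j := by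
    rintro x ⟨a, ha, hax⟩
    exact mem_comap.mpr ((show a = j x from Subtype.ext hax) ▸ ha)
  set φ := QuotientGroup.map ((Cfsg.pCoreOf p L).subgroupOf NL) (Cfsg.pCore p L) j hj with hφ
  have hinj : Function.Injective φ := by
    rw [injective_iff_map_eq_one]
    intro q hq
    obtain ⟨x, rfl⟩ := QuotientGroup.mk'_surjective _ q
    exact (QuotientGroup.eq_one_iff x).mpr ⟨j x, (QuotientGroup.eq_one_iff (j x)).mp hq, rfl⟩
  have hmap : Ybar.map φ = (Y.subgroupOf L).map (QuotientGroup.mk' (Cfsg.pCore p L)) := by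
    ext q
    constructor
    · rintro ⟨_, ⟨x, hx, rfl⟩, rfl⟩
      exact ⟨j x, hx, rfl⟩
    · rintro ⟨x, hx, rfl⟩
      exact ⟨_, ⟨⟨x, hYNL hx⟩, hx, rfl⟩, rfl⟩
  haveI hYn : Ybar.Normal :=
    Normal.map ((normal_subgroupOf_iff_le_normalizer hYNL).mpr (hNL ▸ inf_le_right)) _
      (QuotientGroup.mk'_surjective _)
  refine ⟨fun e => hP1 ?_, hYn, ⟨⟨⟨?_⟩⟩, ?_⟩, fun V hVn hV hV1 => map_injective hinj ?_⟩
  · rw [← hmap, e, Subgroup.map_bot]
  · rintro ⟨_, a, ha, rfl⟩ ⟨_, b, hb, rfl⟩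
    refine Subtype.ext ?_
    show QuotientGroup.mk' _ a * QuotientGroup.mk' _ b = QuotientGroup.mk' _ b * QuotientGroup.mk' _ a
    rw [← map_mul, ← map_mul, show a * b = b * a from Subtype.ext (hab _ ha _ hb)]
  · rintro _ ⟨a, ha, rfl⟩
    rw [← map_pow, show a ^ p = 1 from Subtype.ext (hpow _ ha), map_one]
  · have hrange : ∀ U : Subgroup (↥NL ⧸ (Cfsg.pCoreOf p L).subgroupOf NL), U.Normal →
        φ.range ≤ normalizer ((U.map φ : Subgroup (↥L ⧸ Cfsg.pCore p L)) : Set (↥L ⧸ Cfsg.pCore p L)) := by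
      intro U hU
      haveI := hU
      rw [MonoidHom.range_eq_map, ← (normalizer_eq_top_iff (H := U)).mpr hU]
      exact le_normalizer_map φ
    have hP : ∀ q ∈ normalizer (((Y.subgroupOf L).map (QuotientGroup.mk' (Cfsg.pCore p L)) :
        Subgroup (↥L ⧸ Cfsg.pCore p L)) : Set (↥L ⧸ Cfsg.pCore p L)), q ∈ φ.range := by
      set f := QuotientGroup.mk' (Cfsg.pCore p L)
      have hf : Function.Surjective f := QuotientGroup.mk'_surjective _
      set P := (Y.subgroupOf L).map f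
      intro q hq
      obtain ⟨x, rfl⟩ := hf q
      have hx : x ∈ normalizer ((Y.subgroupOf L : Subgroup L) : Set L) := by
        refine h.uniq ((normalizer (P : Set (↥L ⧸ Cfsg.pCore p L))).comap f)
          (map_le_iff_le_comap.mp le_normalizer) (fun e => h.notNormal ?_) hq
        have hPn : P.Normal := normalizer_eq_top_iff.mp
          (by rw [← map_comap_eq_self_of_surjective hf (normalizer _), e, map_top_of_surjective f hf])
        haveI : (P.comap f).Normal := Normal.comap hPn f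
        have hP' : (⊤ : Subgroup L) ≤ P.comap f :=
          h.gen ▸ normalClosure_le_normal (map_le_iff_le_comap.mp le_rfl)
        rw [comap_map_eq, QuotientGroup.ker_mk'] at hP'
        exact top_le_iff.mp (hP'.trans (sup_le le_normalizer h.ay))
      have hxN : (x : G) ∈ normalizer (Y : Set G) := Cfsg.Lib.Large.mem_normalizer_of_le Y fun y hy =>
        (mem_normalizer_iff.mp hx ⟨y, hYL hy⟩).mp hy
      exact ⟨QuotientGroup.mk' _ ⟨x, hNL ▸ mem_inf.mpr ⟨x.2, hxN⟩⟩, rfl⟩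
    rw [hmap]
    refine hans.2 (V.map φ) ((Cfsg.Lib.Reduced.isPGroup_of_elem hV).map φ) ?_
      (fun e => hV1 ((map_eq_bot_iff_of_injective V hinj).1 e)) ?_ (fun q hq => hrange V hVn (hP q hq))
    · rintro _ ⟨v, hv, rfl⟩
      rw [← map_pow, hV.2 v hv, map_one]
    · exact ((map_le_range φ V).trans (hrange Ybar hYn)).trans (by rw [hmap])

end Cfsg.Lib.FrakL
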