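import Cfsg.Agent.Components.FrakL.Generic

/-!
Removing the central part.
-/

set_option linter.style.haveILetI false
set_option linter.unusedSectionVars false

namespace Cfsg.Lib.FrakL

open Subgroup Cfsg.Lib.Asymmetric
open scoped commutatorElement

variable {Λ : Type*} [Group Λ] [Finite Λ] {p : ℕ} [hp : Fact p.Prime]

/-- the situation in the group itself -/
structure Pre (p : ℕ) (Y A : Subgroup Λ) : Prop where
  yp : IsPGroup p Y
  yab : ∀ a ∈ Y, ∀ b ∈ Y, a * b = b * a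
  core : A = Cfsg.pCore p Λ
  ay : A ≤ normalizer (Y : Set Λ)
  uniq : ∀ X : Subgroup Λ, Y ≤ X → X ≠ ⊤ → X ≤ normalizer (Y : Set Λ)
  gen : normalClosure (Y : Set Λ) = ⊤
  notNormal : normalizer (Y : Set Λ) ≠ ⊤
  acl : A ≤ normalClosure ((Y ⊓ A : Subgroup Λ) : Set Λ)
  charp : centralizer (A : Set Λ) ≤ A

/-- a product of two elements of conjugates of the image -/
def Prd {Q : Type*} [Group Q] (f : Λ →* Q) (Y : Subgroup Λ) (x : Q) : Prop :=
  ∃ e₁ e₂ : Q, ∃ v₁ ∈ cj e₁ (Y.map f), ∃ v₂ ∈ cj e₂ (Y.map f), x = v₁ * v₂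

theorem p_elem_trivial {Q : Type*} [Group Q] {x : Q} {Y : Subgroup Q} (hY : IsPGroup p Y) (hx : x ∈ Y)
    (hc : (orderOf x).Coprime p) : x = 1 := by
  obtain ⟨k, hk⟩ := hY ⟨x, hx⟩
  exact orderOf_eq_one_iff.mp (Nat.eq_one_of_dvd_coprimes (hc.pow_right k) dvd_rfl
    (orderOf_dvd_of_pow_eq_one (congrArg Subtype.val hk)))

variable {Y A : Subgroup Λ}

theorem lift_prd (h : Pre p Y A) {Q : Type*} [Group Q] (f : Λ →* Q) (hf : Function.Surjective f) (hker : f.ker = A)
    {x : Λ} (hx : Prd f Y (f x)) (hc : (orderOf (f x)).Coprime p) (h1 : f x ≠ 1) : Mixed Y A x := by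
  obtain ⟨e1, e2, v1, hv1, v2, hv2, e⟩ := hx
  obtain ⟨c, rfl⟩ := hf e1
  obtain ⟨d, rfl⟩ := hf e2
  have hcj : ∀ c : Λ, cj (f c) (Y.map f) = (cj c Y).map f := fun c => by
    rw [cj, cj, Subgroup.map_map, Subgroup.map_map]
    congr 1
    ext z
    simp
  rw [hcj] at hv1 hv2
  obtain ⟨y1, hy1, rfl⟩ := hv1
  obtain ⟨y2, hy2, rfl⟩ := hv2
  have hmem : (y1 * y2)⁻¹ * x ∈ A := by
    rw [← hker, MonoidHom.mem_ker, map_mul, map_inv, map_mul, e, inv_mul_cancel]
  have hpc : ∀ (c : Λ), IsPGroup p ((cj c Y).map f) := fun c => (h.yp.map _).map _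
  refine ⟨c, d, fun hcd => h1 (p_elem_trivial (hpc c) ?_ hc), y1, hy1, fun hA => h1 (p_elem_trivial (hpc d) ?_ hc),
    y2, hy2, fun hA => h1 (p_elem_trivial (hpc c) ?_ hc), hmem⟩
  · have hcd' : cj d Y = cj c Y := by
      conv_rhs => rw [← cj_eq hcd, cj_cj, mul_inv_cancel_left]
    rw [e, ← map_mul]
    exact mem_map_of_mem f (mul_mem hy1 (hcd' ▸ hy2))
  · rw [e, MonoidHom.mem_ker.mp (hker.ge hA), one_mul]
    exact mem_map_of_mem f hy2
  · rw [e, MonoidHom.mem_ker.mp (hker.ge hA), mul_one]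
    exact mem_map_of_mem f hy1

theorem mixed_map {Γ : Type*} [Group Γ] (π : Λ →* Γ) (hN : ∀ g : Λ, π g ∈ normalizer ((Y.map π : Subgroup Γ) : Set Γ) →
    g ∈ normalizer (Y : Set Λ)) (hA : ∀ y : Λ, π y ∈ A.map π → y ∈ A) {x : Λ} (hx : Mixed Y A x) :
    Mixed (Y.map π) (A.map π) (π x) := by
  obtain ⟨c, d, hcd, y1, h1, h1A, y2, h2, h2A, hm⟩ := hx
  have hcj : ∀ c : Λ, cj (π c) (Y.map π) = (cj c Y).map π := fun c => by
    rw [cj, cj, Subgroup.map_map, Subgroup.map_map]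
    congr 1
    ext z
    simp
  refine ⟨π c, π d, fun hn => hcd (hN _ (by rwa [map_mul, map_inv])), π y1, hcj c ▸ mem_map_of_mem π h1,
    fun h => h1A (hA _ h), π y2, hcj d ▸ mem_map_of_mem π h2, fun h => h2A (hA _ h), ?_⟩
  rw [← map_mul, ← map_inv, ← map_mul]
  exact mem_map_of_mem π hm

theorem fixed_free (h : Pre p Y A) {Q : Type*} [Group Q] (f : Λ →* Q) (hf : Function.Surjective f) (hker : f.ker = A)
    (hQ : ∀ x : Q, (orderOf x).Coprime p → x ≠ 1 → Prd f Y x ∨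
      (p ≠ 2 ∧ ∃ w₁ w₂ : Q, (∀ w : Q, (w = w₁ ∨ w = w₂ ∨ w = w₁ * w₂) →
        (orderOf w).Coprime p ∧ w ≠ 1 ∧ Prd f Y w ∧ w * w = x)))
    {t a : Λ} (hnp : ¬ ∃ k : ℕ, orderOf t = p ^ k) (ha : a ∈ A) (hta : ⁅t, a⁆ ∈ Y ⊓ center Λ) :
    a ∈ Y ⊓ center Λ := by
  set Z := Y ⊓ center Λ with hZ
  haveI hZn : Z.Normal := ⟨fun z hz g => by
    rw [mem_center_iff.mp (mem_inf.mp hz).2 g, mul_inv_cancel_right]; exact hz⟩
  haveI hAn : A.Normal := h.core ▸ Cfsg.Lib.Components.pCore_normal' p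
  have hAp : IsPGroup p A := h.core ▸ Cfsg.Lib.Components.isPGroup_pCore p
  have hZp : IsPGroup p Z := h.yp.to_le inf_le_left
  have hZA : Z ≤ A := h.core ▸ Cfsg.Lib.Components.le_pCore hZp
  set π := QuotientGroup.mk' Z with hπ
  have hπs : Function.Surjective π := QuotientGroup.mk'_surjective Z
  have hπk : ∀ x : Λ, π x = 1 ↔ x ∈ Z := fun x => QuotientGroup.eq_one_iff x
  have hcomap : ∀ B : Subgroup Λ, Z ≤ B → (B.map π).comap π = B := fun B hB => by
    rw [comap_map_eq, hπ, QuotientGroup.ker_mk', sup_eq_left.mpr hB]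
  have hYc : ∀ y : Λ, π y ∈ Y.map π → y ∈ Y := fun y hy => (hcomap Y inf_le_left).le hy
  have hAc : ∀ y : Λ, π y ∈ A.map π → y ∈ A := fun y hy => (hcomap A hZA).le hy
  have hN : ∀ g : Λ, π g ∈ normalizer ((Y.map π : Subgroup (Λ ⧸ Z)) : Set (Λ ⧸ Z)) → g ∈ normalizer (Y : Set Λ) := by
    intro g hg
    refine Cfsg.Lib.Large.mem_normalizer_of_le _ fun y hy => hYc _ ?_
    rw [map_mul, map_mul, map_inv]
    exact (mem_normalizer_iff.mp hg _).mp (mem_map_of_mem π hy)
  have hquad : Quad p (Y.map π) (A.map π) := by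
    refine ⟨h.yp.map π, ?_, Normal.map hAn π hπs, hAp.map π, (map_mono h.ay).trans (le_normalizer_map π),
      fun X hYX hX => ?_, ?_, fun e => h.notNormal ?_, ?_, ?_, ?_⟩
    · rintro _ ⟨x, hx, rfl⟩ _ ⟨y, hy, rfl⟩
      rw [← map_mul, ← map_mul, h.yab x hx y hy]
    · rw [← map_comap_eq_self_of_surjective hπs X]
      refine (map_mono (h.uniq _ (map_le_iff_le_comap.mp hYX) fun e => hX ?_)).trans (le_normalizer_map π)
      rw [← map_comap_eq_self_of_surjective hπs X, e, map_top_of_surjective π hπs]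
    · rw [← top_le_iff, ← map_top_of_surjective π hπs, ← h.gen, map_le_iff_le_comap]
      haveI : ((normalClosure ((Y.map π : Subgroup (Λ ⧸ Z)) : Set (Λ ⧸ Z))).comap π).Normal :=
        Normal.comap normalClosure_normal π
      exact normalClosure_le_normal fun y hy => subset_normalClosure (mem_map_of_mem π hy)
    · exact eq_top_iff.mpr fun g _ => hN g (e ▸ mem_top _)
    · refine (map_mono h.acl).trans ?_
      rw [map_le_iff_le_comap]
      haveI : ((normalClosure ((Y.map π ⊓ A.map π : Subgroup (Λ ⧸ Z)) : Set (Λ ⧸ Z))).comap π).Normal :=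
        Normal.comap normalClosure_normal π
      exact normalClosure_le_normal fun y hy => subset_normalClosure
        (mem_inf.mpr ⟨mem_map_of_mem π (mem_inf.mp hy).1, mem_map_of_mem π (mem_inf.mp hy).2⟩)
    · rw [eq_bot_iff]
      rintro _ hx
      obtain ⟨⟨x, hxY, rfl⟩, hxc⟩ := mem_inf.mp hx
      refine mem_bot.mpr ((hπk x).mpr (mem_inf.mpr ⟨hxY, ?_⟩))
      obtain ⟨g, hg⟩ : ∃ g, g ∉ normalizer (Y : Set Λ) := by
        by_contra hc
        push Not at hc
        exact h.notNormal (eq_top_iff.mpr fun z _ => hc z)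
      have hxg : ∀ c : Λ, x ∈ cj c Y := fun c => by
        refine ⟨c⁻¹ * x * c, ?_, by show c * (c⁻¹ * x * c) * c⁻¹ = x; group⟩
        refine hYc _ ?_
        rw [map_mul, map_mul, map_inv, mul_assoc, ← mem_center_iff.mp hxc (π c), inv_mul_cancel_left]
        exact mem_map_of_mem π hxY
      have hle : normalClosure (Y : Set Λ) ≤ centralizer ({x} : Set Λ) := by
        rw [normalClosure, closure_le]
        intro z hz
        obtain ⟨y, hy, hyz⟩ := Group.mem_conjugatesOfSet_iff.1 hz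
        obtain ⟨c, rfl⟩ := isConj_iff.1 hyz
        obtain ⟨x', hx', e⟩ := hxg c
        refine mem_centralizer_singleton_iff.mpr ?_
        have e' : c * x' * c⁻¹ = x := e
        rw [← e']
        calc c * y * c⁻¹ * (c * x' * c⁻¹) = c * (y * x') * c⁻¹ := by group
          _ = c * (x' * y) * c⁻¹ := by rw [h.yab y hy x' hx']
          _ = c * x' * c⁻¹ * (c * y * c⁻¹) := by group
      rw [h.gen] at hle
      exact mem_center_iff.mpr fun z => mem_centralizer_singleton_iff.mp (hle (mem_top z))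
    · haveI : (A.map π).Normal := Normal.map hAn π hπs
      set C := (centralizer (A.map π : Set (Λ ⧸ Z))).comap π
      haveI : C.Normal := Normal.comap inferInstance π
      have hCp : IsPGroup p C := by
        refine Cfsg.Lib.Easy.isPGroup_of_coprime_trivial C fun x hx hxc => p_elem_trivial hAp (h.charp ?_) hxc
        refine mem_centralizer_iff.mpr fun b hb => (Cfsg.Lib.FrakH.commute_of_coprime hZp hxc
          (fun z hz => mem_center_iff.mp (mem_inf.mp hz).2 x) ?_).symm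
        refine (hπk _).mp ?_
        rw [map_commutatorElement, commutatorElement_eq_one_iff_mul_comm]
        exact (mem_centralizer_iff.mp hx _ (mem_map_of_mem π hb)).symm
      intro y hy
      obtain ⟨x, rfl⟩ := hπs y
      exact mem_map_of_mem π (h.core.ge (Cfsg.Lib.Components.le_pCore hCp hy))
  obtain ⟨u, b, hu, hb, hub, ⟨k, hk⟩, hbc⟩ := Cfsg.Lib.Transfer.exists_pPart p t
  have hb1 : b ≠ 1 := fun e => hnp ⟨k, by rw [← hub, e, mul_one, hk]⟩
  have hbA : b ∉ A := fun e => hb1 (p_elem_trivial hAp e hbc)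
  have hta' : π t * π a = π a * π t := by
    rw [← commutatorElement_eq_one_iff_mul_comm, ← map_commutatorElement, hπk]
    exact hta
  have hba : π b * π a = π a * π b := by
    obtain ⟨n, rfl⟩ := mem_zpowers_iff.mp hb
    rw [map_zpow]
    exact (Commute.zpow_left hta' n).eq
  have hfb : f b ≠ 1 := fun e => hbA (hker.le (MonoidHom.mem_ker.mpr e))
  have hfbc : (orderOf (f b)).Coprime p := Nat.Coprime.coprime_dvd_left (orderOf_map_dvd f b) hbc
  refine (hπk a).mp ?_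
  rcases hQ (f b) hfbc hfb with hprd | ⟨hp2, w1, w2, hw⟩
  · exact fix_mixed hquad (mixed_map π hN hAc (lift_prd h f hf hker hprd hfbc hfb)) (mem_map_of_mem π ha) hba
  · obtain ⟨x1, rfl⟩ := hf w1
    obtain ⟨x2, rfl⟩ := hf w2
    have hmix : ∀ x : Λ, (f x = f x1 ∨ f x = f x2 ∨ f x = f x1 * f x2) →
        Mixed (Y.map π) (A.map π) (π x) ∧ (π x * π x)⁻¹ * π b ∈ A.map π := by
      intro x hx
      obtain ⟨hxc, hx1, hxp, hxx⟩ := hw (f x) hx
      refine ⟨mixed_map π hN hAc (lift_prd h f hf hker hxp hxc hx1), ?_⟩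
      rw [← map_mul, ← map_inv, ← map_mul]
      refine mem_map_of_mem π (hker.le ?_)
      rw [MonoidHom.mem_ker, map_mul, map_inv, map_mul, hxx, inv_mul_cancel]
    obtain ⟨m1, e1⟩ := hmix x1 (Or.inl rfl)
    obtain ⟨m2, e2⟩ := hmix x2 (Or.inr (Or.inl rfl))
    obtain ⟨m3, e3⟩ := hmix (x1 * x2) (Or.inr (Or.inr (map_mul f x1 x2)))
    rw [map_mul] at m3 e3
    exact fix_scalar hquad hp2 m1 m2 m3 e1 e2 e3 (mem_map_of_mem π ha) hba

end Cfsg.Lib.FrakL
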