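import Cfsg.Agent.Components.FrakL.Reduce

/-!
Quotients generated by two involutions, and `SL₂`.
-/

set_option linter.style.haveILetI false
set_option linter.unusedSectionVars false

namespace Cfsg.Lib.FrakL

open Subgroup Cfsg.Lib.Asymmetric
open scoped commutatorElement

section Two

variable {Q : Type*} [Group Q] [Finite Q] {t t' : Q}

theorem cases_two (ht : t ^ 2 = 1) (ht' : t' ^ 2 = 1) (hgen : zpowers t ⊔ zpowers t' = ⊤) (x : Q) :
    ∃ k : ℤ, x = (t * t') ^ k ∨ x = (t * t') ^ k * t := by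
  set r := t * t'
  have hti : t⁻¹ = t := inv_eq_of_mul_eq_one_right (by rw [← pow_two, ht])
  have hti' : t'⁻¹ = t' := inv_eq_of_mul_eq_one_right (by rw [← pow_two, ht'])
  have hflip : ∀ k : ℤ, t * r ^ k = r ^ (-k) * t := by
    intro k
    have h1 : t * r * t⁻¹ = r⁻¹ := by
      show t * (t * t') * t⁻¹ = (t * t')⁻¹
      rw [mul_inv_rev, hti', ← mul_assoc t t t', ← pow_two, ht, one_mul]
    have h2 : t * r ^ k * t⁻¹ = r ^ (-k) := by rw [← conj_zpow, h1, inv_zpow']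
    rw [← h2]; group
  let K : Subgroup Q :=
    { carrier := {x | ∃ k : ℤ, x = r ^ k ∨ x = r ^ k * t}
      one_mem' := ⟨0, Or.inl (zpow_zero r).symm⟩
      mul_mem' := by
        rintro _ _ ⟨i, rfl | rfl⟩ ⟨j, rfl | rfl⟩
        · exact ⟨i + j, Or.inl (zpow_add r i j).symm⟩
        · exact ⟨i + j, Or.inr (by rw [zpow_add, mul_assoc])⟩
        · exact ⟨i - j, Or.inr (by rw [mul_assoc, hflip, ← mul_assoc, ← zpow_add, sub_eq_add_neg])⟩
        · refine ⟨i - j, Or.inl ?_⟩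
          rw [mul_assoc, ← mul_assoc t, hflip, mul_assoc (r ^ (-j)), ← pow_two, ht, mul_one, ← zpow_add,
            sub_eq_add_neg]
      inv_mem' := by
        rintro _ ⟨i, rfl | rfl⟩
        · exact ⟨-i, Or.inl (zpow_neg r i).symm⟩
        · exact ⟨i, Or.inr (by rw [mul_inv_rev, hti, ← zpow_neg, hflip, neg_neg])⟩ }
  have hle : zpowers t ⊔ zpowers t' ≤ K := by
    refine sup_le (zpowers_le.mpr ⟨0, Or.inr (by rw [zpow_zero, one_mul])⟩) (zpowers_le.mpr ⟨-1, Or.inr ?_⟩)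
    show t' = (t * t') ^ (-1 : ℤ) * t
    rw [zpow_neg_one, mul_inv_rev, hti', hti, mul_assoc, ← pow_two, ht, mul_one]
  exact (hgen ▸ hle) (mem_top x)

theorem prod_two (ht : t ^ 2 = 1) (ht' : t' ^ 2 = 1) (hgen : zpowers t ⊔ zpowers t' = ⊤) {x : Q}
    (hx : (orderOf x).Coprime 2) (hx1 : x ≠ 1) : ∃ e : Q, x = e * t * e⁻¹ * t := by
  obtain ⟨n, hn⟩ := exists_pow_eq_self_of_coprime (x := x) hx.symm
  have hti : t⁻¹ = t := inv_eq_of_mul_eq_one_right (by rw [← pow_two, ht])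
  have hti' : t'⁻¹ = t' := inv_eq_of_mul_eq_one_right (by rw [← pow_two, ht'])
  have hsq : (x ^ n) ^ 2 = x := by rw [← pow_mul, mul_comm, pow_mul, hn]
  have h1 : t * (t * t') * t⁻¹ = (t * t')⁻¹ := by
    rw [mul_inv_rev, hti', ← mul_assoc t t t', ← pow_two, ht, one_mul]
  obtain ⟨k, hk | hk⟩ := cases_two ht ht' hgen (x ^ n)
  · refine ⟨(t * t') ^ k, ?_⟩
    have h2 : t * (t * t') ^ (-k) * t⁻¹ = (t * t') ^ k := by rw [← conj_zpow, h1, inv_zpow', neg_neg]
    conv_lhs => rw [← hsq, hk, pow_two]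
    nth_rewrite 2 [← h2]
    rw [hti]
    group
  · exfalso
    refine hx1 ?_
    rw [← hsq, hk, pow_two]
    have h2 : t * (t * t') ^ k * t = (t * t') ^ (-k) := by
      nth_rewrite 3 [← hti]
      rw [← conj_zpow, h1, inv_zpow']
    calc (t * t') ^ k * t * ((t * t') ^ k * t) = (t * t') ^ k * (t * (t * t') ^ k * t) := by group
      _ = 1 := by rw [h2, ← zpow_add, add_neg_cancel, zpow_zero]

theorem centralizer_two (ht : t ^ 2 = 1) (ht' : t' ^ 2 = 1) (hgen : zpowers t ⊔ zpowers t' = ⊤)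
    (hcore : Cfsg.pCore 2 Q = ⊥) {x : Q} (hx : x * t = t * x) : x ∈ zpowers t := by
  haveI : Fact (Nat.Prime 2) := ⟨Nat.prime_two⟩
  have hti : t⁻¹ = t := inv_eq_of_mul_eq_one_right (by rw [← pow_two, ht])
  have hti' : t'⁻¹ = t' := inv_eq_of_mul_eq_one_right (by rw [← pow_two, ht'])
  have h1 : t * (t * t') * t⁻¹ = (t * t')⁻¹ := by
    rw [mul_inv_rev, hti', ← mul_assoc t t t', ← pow_two, ht, one_mul]
  have key : ∀ k : ℤ, (t * t') ^ k * t = t * (t * t') ^ k → (t * t') ^ k = 1 := by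
    intro k hk
    set z := (t * t') ^ k with hz
    have h2 : t * z * t⁻¹ = z⁻¹ := by rw [hz, ← conj_zpow, h1, inv_zpow]
    have hz2 : z⁻¹ = z := by rw [← h2, ← hk, mul_inv_cancel_right]
    have hle : zpowers t ⊔ zpowers t' ≤ centralizer ({z} : Set Q) := by
      refine sup_le (zpowers_le.mpr (mem_centralizer_singleton_iff.mpr hk.symm)) (zpowers_le.mpr ?_)
      refine mem_centralizer_singleton_iff.mpr ?_
      have hc : Commute (t * t') z := (Commute.refl (t * t')).zpow_right k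
      have e : t' = t * (t * t') := by rw [← mul_assoc, ← pow_two, ht, one_mul]
      rw [e, mul_assoc, hc.eq, ← mul_assoc, ← mul_assoc z, hk]
    rw [hgen] at hle
    haveI : (zpowers z).Normal := ⟨fun y hy g => by
      obtain ⟨n, rfl⟩ := mem_zpowers_iff.1 hy
      rw [((show Commute g z from mem_centralizer_singleton_iff.mp (hle (mem_top g))).zpow_right n).eq, mul_inv_cancel_right]
      exact zpow_mem (mem_zpowers z) n⟩
    have hp : IsPGroup 2 (zpowers z) := by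
      rintro ⟨y, hy⟩
      obtain ⟨n, rfl⟩ := mem_zpowers_iff.1 hy
      refine ⟨1, Subtype.ext ?_⟩
      show (z ^ n) ^ 2 ^ 1 = 1
      rw [pow_one, ← zpow_natCast, ← zpow_mul, mul_comm, zpow_mul, zpow_natCast]
      rw [show z ^ 2 = 1 by rw [pow_two]; nth_rewrite 1 [← hz2]; exact inv_mul_cancel z, one_zpow]
    exact zpowers_eq_bot.1 (le_bot_iff.1 ((Cfsg.Lib.Components.le_pCore hp).trans hcore.le))
  obtain ⟨k, rfl | rfl⟩ := cases_two ht ht' hgen x
  · rw [key k hx]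
    exact one_mem _
  · have : (t * t') ^ k * t = t * (t * t') ^ k := by
      have := hx
      rw [← mul_assoc t] at this
      exact mul_right_cancel this
    rw [key k this, one_mul]
    exact mem_zpowers t

end Two

section SL2

variable {F : Type*} [Field F]

open Matrix in
/-- upper unipotent element -/
def up (s : F) : Matrix.SpecialLinearGroup (Fin 2) F := ⟨!![1, s; 0, 1], by simp [Matrix.det_fin_two]⟩

open Matrix in
/-- lower unipotent element -/
def low (s : F) : Matrix.SpecialLinearGroup (Fin 2) F := ⟨!![1, 0; s, 1], by simp [Matrix.det_fin_two]⟩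

open Matrix in
/-- the Weyl element -/
def wey : Matrix.SpecialLinearGroup (Fin 2) F := ⟨!![0, 1; -1, 0], by simp [Matrix.det_fin_two]⟩

@[simp] theorem coe_up (s : F) : (up s).1 = !![1, s; 0, 1] := rfl
@[simp] theorem coe_low (s : F) : (low s).1 = !![1, 0; s, 1] := rfl
@[simp] theorem coe_wey : (wey : Matrix.SpecialLinearGroup (Fin 2) F).1 = !![0, 1; -1, 0] := rfl

theorem up_mul (s s' : F) : up s * up s' = up (s + s') := by
  refine Subtype.ext ?_
  simp [add_comm]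

theorem up_zero : up (0 : F) = 1 := Subtype.ext (by simp [up, Matrix.one_fin_two])

theorem up_inj {s s' : F} (h : up s = up s') : s = s' := by
  simpa [up] using congrArg (fun g : Matrix.SpecialLinearGroup (Fin 2) F => g.1 0 1) h

theorem up_inv (s : F) : (up s)⁻¹ = up (-s) :=
  inv_eq_of_mul_eq_one_right (by rw [up_mul, add_neg_cancel, up_zero])

/-- the upper unipotent subgroup -/
def upSub : Subgroup (Matrix.SpecialLinearGroup (Fin 2) F) where
  carrier := {g | ∃ s, g = up s}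
  one_mem' := ⟨0, up_zero.symm⟩
  mul_mem' := fun ⟨s, e⟩ ⟨s', e'⟩ => ⟨s + s', by rw [e, e', up_mul]⟩
  inv_mem' := fun ⟨s, e⟩ => ⟨-s, by rw [e, up_inv]⟩

theorem card_upSub [Fintype F] : Nat.card (upSub (F := F)) = Fintype.card F := by
  rw [← Nat.card_eq_fintype_card]
  exact (Nat.card_eq_of_bijective (fun s : F => (⟨up s, s, rfl⟩ : upSub (F := F)))
    ⟨fun s s' h => up_inj (congrArg Subtype.val h), fun ⟨g, s, e⟩ => ⟨s, Subtype.ext e.symm⟩⟩).symm

variable [Fintype F] {p : ℕ} [hp : Fact p.Prime]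

open Matrix in
theorem sl2_le_up (hF : p ∣ Fintype.card F) (P : Subgroup (Matrix.SpecialLinearGroup (Fin 2) F))
    (hP : IsPGroup p P) : ∃ g : Matrix.SpecialLinearGroup (Fin 2) F, P ≤ cj g upSub := by
  classical
  haveI : Finite (Fin 2 → F) := inferInstance
  have hdvd : p ∣ Nat.card (Fin 2 → F) := by
    rw [Nat.card_eq_fintype_card, Fintype.card_fun, Fintype.card_fin]
    exact dvd_pow hF two_ne_zero
  let act : MulAction P (Fin 2 → F) :=
    { smul := fun g v => (g : Matrix.SpecialLinearGroup (Fin 2) F).1 *ᵥ v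
      one_smul := fun v => Matrix.one_mulVec v
      mul_smul := fun g h v => (Matrix.mulVec_mulVec _ _ _).symm }
  obtain ⟨v, hv, hv0⟩ := hP.exists_fixed_point_of_prime_dvd_card_of_fixed_point (Fin 2 → F) hdvd
    (a := 0) (fun g => Matrix.mulVec_zero _)
  obtain ⟨g, hg⟩ : ∃ g : Matrix.SpecialLinearGroup (Fin 2) F, g.1 *ᵥ ![1, 0] = v := by
    by_cases h0 : v 0 = 0
    · have h1 : v 1 ≠ 0 := fun h1 => hv0 (funext fun i => by fin_cases i <;> simp [h0, h1])
      refine ⟨⟨!![0, -(v 1)⁻¹; v 1, 0], by simp [Matrix.det_fin_two, h1]⟩, funext fun i => ?_⟩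
      fin_cases i <;> simp [Matrix.mulVec, dotProduct, Fin.sum_univ_two, h0]
    · refine ⟨⟨!![v 0, 0; v 1, (v 0)⁻¹], by simp [Matrix.det_fin_two, h0]⟩, funext fun i => ?_⟩
      fin_cases i <;> simp [Matrix.mulVec, dotProduct, Fin.sum_univ_two]
  refine ⟨g, fun x hx => ⟨g⁻¹ * x * g, ?_, by show g * (g⁻¹ * x * g) * g⁻¹ = x; group⟩⟩
  have hxv : Matrix.mulVec x.1 v = v := hv ⟨x, hx⟩
  have hy : (g⁻¹ * x * g).1 *ᵥ ![1, 0] = ![1, 0] := by
    rw [Matrix.SpecialLinearGroup.coe_mul, Matrix.SpecialLinearGroup.coe_mul, ← Matrix.mulVec_mulVec,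
      ← Matrix.mulVec_mulVec, hg, hxv, ← hg, Matrix.mulVec_mulVec, ← Matrix.SpecialLinearGroup.coe_mul,
      inv_mul_cancel, Matrix.SpecialLinearGroup.coe_one, Matrix.one_mulVec]
  generalize g⁻¹ * x * g = y at hy ⊢
  have h00 : y.1 0 0 = 1 := by simpa [Matrix.mulVec, dotProduct, Fin.sum_univ_two] using congrFun hy 0
  have h10 : y.1 1 0 = 0 := by simpa [Matrix.mulVec, dotProduct, Fin.sum_univ_two] using congrFun hy 1
  have hdet := y.2
  rw [Matrix.det_fin_two, h00, h10, one_mul, mul_zero, sub_zero] at hdet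
  refine ⟨y.1 0 1, Subtype.ext (Matrix.ext fun i j => ?_)⟩
  fin_cases i <;> fin_cases j <;> simp [h00, h10, hdet]

theorem sl2_eq_up (hF : p ∣ Fintype.card F) (P : Subgroup (Matrix.SpecialLinearGroup (Fin 2) F))
    (hP : IsPGroup p P) (hcard : Nat.card P = Fintype.card F) :
    ∃ g : Matrix.SpecialLinearGroup (Fin 2) F, P = cj g upSub := by
  obtain ⟨g, hg⟩ := sl2_le_up hF P hP
  refine ⟨g, Subgroup.eq_of_le_of_card_ge hg ?_⟩
  rw [hcard, Cfsg.Lib.Transfer.card_map_conj, card_upSub]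

theorem low_eq (r : F) : low r = wey * up (-r) * wey⁻¹ := by
  rw [eq_mul_inv_iff_mul_eq]
  refine Subtype.ext (Matrix.ext fun i j => ?_)
  fin_cases i <;> fin_cases j <;> simp

/-- products of two unipotent elements -/
def UProd (x : Matrix.SpecialLinearGroup (Fin 2) F) : Prop :=
  ∃ e₁ e₂ : Matrix.SpecialLinearGroup (Fin 2) F, ∃ v₁ ∈ cj e₁ (upSub (F := F)), ∃ v₂ ∈ cj e₂ (upSub (F := F)), x = v₁ * v₂

theorem uprod_conj {x : Matrix.SpecialLinearGroup (Fin 2) F} (e : Matrix.SpecialLinearGroup (Fin 2) F)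
    (h : UProd (e * x * e⁻¹)) : UProd x := by
  obtain ⟨e1, e2, v1, h1, v2, h2, he⟩ := h
  refine ⟨e⁻¹ * e1, e⁻¹ * e2, e⁻¹ * v1 * e, ?_, e⁻¹ * v2 * e, ?_, ?_⟩
  · rw [← cj_cj]; exact ⟨v1, h1, by show e⁻¹ * v1 * e⁻¹⁻¹ = _; rw [inv_inv]⟩
  · rw [← cj_cj]; exact ⟨v2, h2, by show e⁻¹ * v2 * e⁻¹⁻¹ = _; rw [inv_inv]⟩
  · calc x = e⁻¹ * (e * x * e⁻¹) * e := by group
      _ = e⁻¹ * v1 * e * (e⁻¹ * v2 * e) := by rw [he]; group

theorem uprod_lower {x : Matrix.SpecialLinearGroup (Fin 2) F} (hc : x.1 1 0 ≠ 0) : UProd x := by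
  refine uprod_conj (up ((x.1 1 1 - 1) / x.1 1 0)) ?_
  set k := (x.1 1 1 - 1) / x.1 1 0 with hk
  set y := up k * x * (up k)⁻¹ with hy
  have h11 : y.1 1 1 = 1 := by
    rw [hy, up_inv]
    simp [Matrix.mul_apply, Fin.sum_univ_two, Matrix.vecMul, dotProduct, hk]
    field_simp
    ring
  have hdet := y.2
  rw [Matrix.det_fin_two, h11, mul_one] at hdet
  have e : y = up (y.1 0 1) * low (y.1 1 0) := by
    refine Subtype.ext (Matrix.ext fun i j => ?_)
    fin_cases i <;> fin_cases j <;>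
      simp [Matrix.mul_apply, Fin.sum_univ_two, h11]
    linear_combination hdet
  rw [e]
  refine ⟨1, wey, _, ?_, _, ?_, rfl⟩
  · rw [cj_eq (one_mem (normalizer ((upSub (F := F) : Subgroup (Matrix.SpecialLinearGroup (Fin 2) F)) : Set (Matrix.SpecialLinearGroup (Fin 2) F))))]
    exact ⟨_, rfl⟩
  · exact ⟨up (-(y.1 1 0)), ⟨_, rfl⟩, (low_eq _).symm⟩

theorem uprod_nonscalar {x : Matrix.SpecialLinearGroup (Fin 2) F}
    (h : ¬ (x.1 0 1 = 0 ∧ x.1 1 0 = 0 ∧ x.1 0 0 = x.1 1 1)) : UProd x := by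
  by_cases hc : x.1 1 0 = 0
  · by_cases hb : x.1 0 1 = 0
    · refine uprod_conj (low 1) (uprod_lower ?_)
      have hne : x.1 0 0 - x.1 1 1 ≠ 0 := sub_ne_zero.2 fun e => h ⟨hb, hc, e⟩
      simp [Matrix.SpecialLinearGroup.coe_mul, Matrix.SpecialLinearGroup.coe_inv, Matrix.adjugate_fin_two, Matrix.mul_apply, Fin.sum_univ_two, Matrix.vecMul, dotProduct, hb, hc, ← sub_eq_add_neg]
      exact hne
    · refine uprod_conj wey (uprod_lower ?_)
      simp [Matrix.SpecialLinearGroup.coe_mul, Matrix.SpecialLinearGroup.coe_inv, Matrix.adjugate_fin_two, Matrix.mul_apply, Fin.sum_univ_two, Matrix.vecMul, dotProduct, hb]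
  · exact uprod_lower hc

theorem two_squares (c : F) : ∃ a b : F, a ^ 2 + b ^ 2 = c := by
  by_cases h2 : ringChar F = 2
  · obtain ⟨a, ha⟩ := FiniteField.isSquare_of_char_two h2 c
    exact ⟨a, 0, by rw [ha]; ring⟩
  · obtain ⟨a, b, hab⟩ := FiniteField.exists_root_sum_quadratic (R := F) (f := Polynomial.X ^ 2)
      (g := Polynomial.X ^ 2 - Polynomial.C c) (by simp) (Polynomial.degree_X_pow_sub_C two_pos c)
      (FiniteField.odd_card_of_char_ne_two h2)
    refine ⟨a, b, ?_⟩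
    simp only [Polynomial.eval_pow, Polynomial.eval_X, Polynomial.eval_sub, Polynomial.eval_C] at hab
    linear_combination hab

open Matrix in
/-- elements of order prime to the characteristic -/
theorem sl2_cases (hF : p ∣ Fintype.card F) [CharP F p] {x : Matrix.SpecialLinearGroup (Fin 2) F}
    (hx : (orderOf x).Coprime p) (hx1 : x ≠ 1) :
    UProd x ∨ (p ≠ 2 ∧ ∃ w₁ w₂ : Matrix.SpecialLinearGroup (Fin 2) F, ∀ w, (w = w₁ ∨ w = w₂ ∨ w = w₁ * w₂) →
      (orderOf w).Coprime p ∧ w ≠ 1 ∧ UProd w ∧ w * w = x) := by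
  by_cases h : x.1 0 1 = 0 ∧ x.1 1 0 = 0 ∧ x.1 0 0 = x.1 1 1
  swap
  · exact Or.inl (uprod_nonscalar h)
  obtain ⟨h01, h10, hd⟩ := h
  have hdet := x.2
  rw [Matrix.det_fin_two, h01, zero_mul, sub_zero, ← hd] at hdet
  rcases mul_self_eq_one_iff.1 hdet with h00 | h00
  · exact absurd (Subtype.ext (Matrix.ext fun i j => by fin_cases i <;> fin_cases j <;> simp [h01, h10, ← hd, h00])) hx1
  have hp2 : p ≠ 2 := by
    rintro rfl
    have : (-1 : F) = 1 := CharTwo.neg_eq 1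
    exact hx1 (Subtype.ext (Matrix.ext fun i j => by fin_cases i <;> fin_cases j <;> simp [h01, h10, ← hd, h00, this]))
  have h2 : (2 : F) ≠ 0 := fun e => hp2 ((Nat.prime_dvd_prime_iff_eq hp.out Nat.prime_two).1
    ((CharP.cast_eq_zero_iff F p 2).1 (by exact_mod_cast e)))
  obtain ⟨a, b, hab⟩ := two_squares (-1 : F)
  refine Or.inr ⟨hp2, wey, ⟨!![a, b; b, -a], by simp [Matrix.det_fin_two]; linear_combination -hab⟩, fun w hw => ?_⟩
  have key : ∀ w : Matrix.SpecialLinearGroup (Fin 2) F, w.1 0 0 + w.1 1 1 = 0 →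
      (orderOf w).Coprime p ∧ w ≠ 1 ∧ UProd w ∧ w * w = x := by
    intro w hw
    have hd11 : w.1 1 1 = -w.1 0 0 := eq_neg_of_add_eq_zero_right hw
    have hdw := w.2
    rw [Matrix.det_fin_two, hd11] at hdw
    have hsq : w * w = x := by
      refine Subtype.ext (Matrix.ext fun i j => ?_)
      fin_cases i <;> fin_cases j <;>
        simp [Matrix.SpecialLinearGroup.coe_mul, Matrix.mul_apply, Fin.sum_univ_two, hd11, h01, h10, ← hd, h00]
      · linear_combination -hdw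
      · ring
      · ring
      · linear_combination -hdw
    have hx4 : x * x = 1 := Subtype.ext (Matrix.ext fun i j => by
      fin_cases i <;> fin_cases j <;>
        simp [Matrix.SpecialLinearGroup.coe_mul, Matrix.mul_apply, Fin.sum_univ_two, h01, h10, ← hd, h00])
    have h4 : w ^ (2 ^ 2) = 1 := by rw [show (2 : ℕ) ^ 2 = 2 * 2 from rfl, pow_mul, pow_two w, hsq, pow_two, hx4]
    refine ⟨Nat.Coprime.coprime_dvd_left (orderOf_dvd_of_pow_eq_one h4)
      (((Nat.coprime_primes Nat.prime_two hp.out).2 hp2.symm).pow_left 2), fun e => hx1 ?_, uprod_nonscalar ?_, hsq⟩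
    · rw [← hsq, e, one_mul]
    · rintro ⟨e01, e10, e00⟩
      rw [hd11] at e00
      have h0 : w.1 0 0 = 0 := by
        have : (2 : F) * w.1 0 0 = 0 := by linear_combination e00
        exact (mul_eq_zero.1 this).resolve_left h2
      rw [e01, e10, h0] at hdw
      simp at hdw
  rcases hw with rfl | rfl | rfl
  · exact key _ (by simp)
  · exact key _ (show a + -a = 0 from add_neg_cancel a)
  · refine key _ ?_
    show ((!![0, 1; -1, 0] : Matrix (Fin 2) (Fin 2) F) * !![a, b; b, -a]) 0 0 +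
      ((!![0, 1; -1, 0] : Matrix (Fin 2) (Fin 2) F) * !![a, b; b, -a]) 1 1 = 0
    simp

theorem sl2_irreducible (hF : p ∣ Fintype.card F) (P V : Subgroup (Matrix.SpecialLinearGroup (Fin 2) F))
    (hP : IsPGroup p P) (hcard : Nat.card P = Fintype.card F) (hVP : V ≤ P) (hV : V ≠ ⊥)
    (hn : normalizer (P : Set (Matrix.SpecialLinearGroup (Fin 2) F)) ≤ normalizer (V : Set (Matrix.SpecialLinearGroup (Fin 2) F))) :
    V = P := by
  obtain ⟨g, hg⟩ := sl2_eq_up hF P hP hcard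
  refine le_antisymm hVP ?_
  let S : AddSubgroup F :=
    { carrier := {s | g * up s * g⁻¹ ∈ V}
      zero_mem' := by show g * up 0 * g⁻¹ ∈ V; rw [up_zero, mul_one, mul_inv_cancel]; exact one_mem V
      add_mem' := fun {s s'} hs hs' => by
        show g * up (s + s') * g⁻¹ ∈ V
        rw [← up_mul, show g * (up s * up s') * g⁻¹ = g * up s * g⁻¹ * (g * up s' * g⁻¹) by group]
        exact mul_mem hs hs'
      neg_mem' := fun {s} hs => by
        show g * up (-s) * g⁻¹ ∈ V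
        rw [← up_inv, show g * (up s)⁻¹ * g⁻¹ = (g * up s * g⁻¹)⁻¹ by group]
        exact inv_mem hs }
  have hdiag : ∀ (a : F), a ≠ 0 → ∀ s ∈ S, a ^ 2 * s ∈ S := by
    intro a ha s hs
    let d : Matrix.SpecialLinearGroup (Fin 2) F := ⟨!![a, 0; 0, a⁻¹], by simp [Matrix.det_fin_two, ha]⟩
    have hd : d.1 = !![a, 0; 0, a⁻¹] := rfl
    have hds : ∀ s, d * up s * d⁻¹ = up (a ^ 2 * s) := fun s => by
      rw [mul_inv_eq_iff_eq_mul]
      refine Subtype.ext (Matrix.ext fun i j => ?_)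
      fin_cases i <;> fin_cases j <;> simp [hd]
      field_simp
    have hn' : g * d * g⁻¹ ∈ normalizer (P : Set (Matrix.SpecialLinearGroup (Fin 2) F)) := by
      rw [mem_normalizer_iff_map_conj_eq]
      refine Subgroup.eq_of_le_of_card_ge ?_ (Cfsg.Lib.Transfer.card_map_conj P _).ge
      rw [hg]
      rintro _ ⟨_, ⟨_, ⟨s, rfl⟩, rfl⟩, rfl⟩
      refine ⟨up (a ^ 2 * s), ⟨_, rfl⟩, ?_⟩
      show g * up (a ^ 2 * s) * g⁻¹ = g * d * g⁻¹ * (g * up s * g⁻¹) * (g * d * g⁻¹)⁻¹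
      rw [← hds]; group
    have h := (mem_normalizer_iff.1 (hn hn') _).1 hs
    show g * up (a ^ 2 * s) * g⁻¹ ∈ V
    rw [← hds]
    convert h using 1
    group
  obtain ⟨s0, hs0, hs01⟩ : ∃ s ∈ S, s ≠ 0 := by
    obtain ⟨⟨v, hv⟩, hv1⟩ := V.ne_bot_iff_exists_ne_one.1 hV
    obtain ⟨_, ⟨s, rfl⟩, e⟩ := hg.le (hVP hv)
    refine ⟨s, show g * up s * g⁻¹ ∈ V from (show g * up s * g⁻¹ = v from e).symm ▸ hv, fun hs => hv1 (Subtype.ext ?_)⟩
    show v = 1
    rw [← show g * up s * g⁻¹ = v from e, hs, up_zero, mul_one, mul_inv_cancel]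
  intro x hx
  obtain ⟨_, ⟨s, rfl⟩, rfl⟩ := hg.le hx
  show s ∈ S
  obtain ⟨a, b, hab⟩ := two_squares (s / s0)
  have hsq : ∀ a : F, a ^ 2 * s0 ∈ S := fun a => by
    rcases eq_or_ne a 0 with rfl | ha
    · simp [S.zero_mem]
    · exact hdiag a ha s0 hs0
  have := S.add_mem (hsq a) (hsq b)
  rwa [← add_mul, hab, div_mul_cancel₀ _ hs01] at this

end SL2

end Cfsg.Lib.FrakL
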